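import Groth.Agent.WeilLib.Trdeg
import Mathlib.AlgebraicGeometry.Morphisms.ClosedImmersion
import Mathlib.AlgebraicGeometry.ResidueField
import Mathlib.RingTheory.Jacobson.Ring

/-!
# Closed points over an algebraically closed field
-/

set_option autoImplicit false
set_option linter.style.haveILetI false
set_option backward.isDefEq.respectTransparency false

universe u

open CategoryTheory AlgebraicGeometry TopologicalSpace

noncomputable section

namespace Groth.Agent.W7OnePole

/-- A closed point over an algebraically closed field is the image of a section. -/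
theorem exists_section_of_closed {k : Type u} [Field k] [IsAlgClosed k] {X : Scheme.{u}}
    (f : X ⟶ Spec (CommRingCat.of k)) [LocallyOfFiniteType f] {x : X} (hx : IsClosed ({x} : Set X)) :
    ∃ s : Spec (CommRingCat.of k) ⟶ X, s ≫ f = 𝟙 _ ∧ ∀ p, s p = x := by
  haveI : IsClosedImmersion (X.fromSpecResidueField x) := isClosed_singleton_iff_isClosedImmersion.mp hx
  let σ := Spec.preimage (X.fromSpecResidueField x ≫ f)
  have hσ : Spec.map σ = X.fromSpecResidueField x ≫ f := Spec.map_preimage _
  have hft : LocallyOfFiniteType (Spec.map σ) := by rw [hσ]; infer_instance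
  have hft' : σ.hom.FiniteType := (HasRingHomProperty.Spec_iff (P := @LocallyOfFiniteType)).mp hft
  letI := σ.hom.toAlgebra
  haveI : Algebra.FiniteType k (X.residueField x) := hft'
  haveI : Module.Finite k (X.residueField x) := finite_of_finite_type_of_isJacobsonRing _ _
  have hbij : Function.Bijective σ.hom :=
    IsAlgClosed.algebraMap_bijective_of_isIntegral (k := k) (K := X.residueField x)
  haveI : IsIso σ := (ConcreteCategory.isIso_iff_bijective σ).mpr hbij
  refine ⟨Spec.map (inv σ) ≫ X.fromSpecResidueField x, ?_, fun p => ?_⟩
  · rw [Category.assoc, ← hσ, ← Spec.map_comp, IsIso.hom_inv_id, Spec.map_id]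
  · have : X.fromSpecResidueField x (Spec.map (inv σ) p) ∈ ({x} : Set X) := by
      rw [← X.range_fromSpecResidueField x]
      exact ⟨_, rfl⟩
    exact this

/-- A nonempty scheme of finite type over a field has a closed point. -/
theorem exists_closed_point {X : Scheme.{u}} [Nonempty X] [CompactSpace X] :
    ∃ x : X, IsClosed ({x} : Set X) := by
  obtain ⟨z, -, hz⟩ := (isClosed_univ (X := X)).exists_closed_singleton Set.univ_nonempty
  exact ⟨z, hz⟩

end Groth.Agent.W7OnePole
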