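import Groth.Agent.W7Pencil.Invol
import Groth.Agent.CurveRR.Zero

/-!
# The action of an endomorphism at a fixed rational point
-/

set_option autoImplicit false
set_option linter.style.haveILetI false
set_option backward.isDefEq.respectTransparency false

universe u

open CategoryTheory AlgebraicGeometry TopologicalSpace
open Groth.Agent Groth.Agent.CurveRR
open Groth.Agent.QC (resO)
open Groth.Agent.W7Pencil (gm ffMap ffMap_gm gm_resO)

noncomputable section

namespace Groth.Agent.W7OnePole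

attribute [local instance] Curv2.stalkAlgebra Curv2.resAlgebra

variable {X : Scheme.{u}}

/-- The map on the local ring at a fixed point. -/
def stalkEnd (σ : X ⟶ X) {Q : X} (e : σ Q = Q) : X.presheaf.stalk Q →+* X.presheaf.stalk Q :=
  (X.presheaf.stalkSpecializes (specializes_of_eq e) ≫ σ.stalkMap Q).hom

theorem stalkEnd_germ (σ : X ⟶ X) {Q : X} (e : σ Q = Q) {U : X.Opens} (h : Q ∈ U) (h' : Q ∈ σ ⁻¹ᵁ U)
    (a : Γ(X, U)) :
    stalkEnd σ e (X.presheaf.germ U Q h a) = X.presheaf.germ (σ ⁻¹ᵁ U) Q h' ((σ.app U).hom a) := by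
  show (σ.stalkMap Q).hom ((X.presheaf.stalkSpecializes (specializes_of_eq e)).hom (X.presheaf.germ U Q h a)) = _
  rw [TopCat.Presheaf.germ_stalkSpecializes_apply]
  exact congr($(Scheme.Hom.germ_stalkMap σ U Q _) a)

theorem residue_stalkEnd_eq_zero (σ : X ⟶ X) {Q : X} (e : σ Q = Q) {r : X.presheaf.stalk Q}
    (h : (X.residue Q).hom r = 0) : (X.residue Q).hom (stalkEnd σ e r) = 0 := by
  obtain ⟨U, hQ, a, rfl⟩ := X.presheaf.exists_germ_eq r
  have hQ' : Q ∈ σ ⁻¹ᵁ U := by show σ Q ∈ U; rw [e]; exact hQ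
  rw [stalkEnd_germ σ e hQ hQ']
  refine (X.evaluation_eq_zero_iff_notMem_basicOpen Q hQ' _).2 fun hm => ?_
  rw [← Scheme.preimage_basicOpen] at hm
  have hm' : σ Q ∈ X.basicOpen a := hm
  rw [e] at hm'
  exact (X.evaluation_eq_zero_iff_notMem_basicOpen Q hQ a).1 h hm'

variable {k : Type u} [Field k] [X.Over (Spec (CommRingCat.of k))]

theorem stalkEnd_algebraMap (σ : X ⟶ X) (hσ : σ ≫ (X ↘ Spec (CommRingCat.of k)) = X ↘ Spec (CommRingCat.of k))
    {Q : X} (e : σ Q = Q) (c : k) :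
    stalkEnd σ e (algebraMap k (X.presheaf.stalk Q) c) = algebraMap k (X.presheaf.stalk Q) c := by
  show stalkEnd σ e (X.presheaf.germ ⊤ Q trivial (Coh.toGlobal (X ↘ Spec (CommRingCat.of k)) c)) =
    X.presheaf.germ ⊤ Q trivial (Coh.toGlobal (X ↘ Spec (CommRingCat.of k)) c)
  rw [stalkEnd_germ σ e (U := ⊤) trivial trivial]
  refine congrArg (fun r : Γ(X, ⊤) => (X.presheaf.germ ⊤ Q trivial).hom r) ?_
  conv_rhs => rw [← hσ]
  show (σ.appTop).hom _ = _
  simp only [Coh.toGlobal, Scheme.Hom.comp_appTop]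
  rfl

/-- At a rational fixed point the residue class is unchanged. -/
theorem residue_stalkEnd (σ : X ⟶ X) (hσ : σ ≫ (X ↘ Spec (CommRingCat.of k)) = X ↘ Spec (CommRingCat.of k))
    {Q : X} (e : σ Q = Q) (hrat : Module.finrank k (X.residueField Q) = 1) (r : X.presheaf.stalk Q) :
    (X.residue Q).hom (stalkEnd σ e r) = (X.residue Q).hom r := by
  obtain ⟨c, hc⟩ := (finrank_eq_one_iff_of_nonzero' (1 : X.residueField Q) one_ne_zero).1 hrat ((X.residue Q).hom r)
  rw [Algebra.smul_def, mul_one] at hc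
  have h0 : (X.residue Q).hom (r - algebraMap k (X.presheaf.stalk Q) c) = 0 := by
    rw [map_sub, ← hc]; exact sub_self _
  have h1 := residue_stalkEnd_eq_zero σ e h0
  rw [map_sub, map_sub, stalkEnd_algebraMap σ hσ e, sub_eq_zero] at h1
  rw [h1, ← hc]
  rfl

variable [IsIntegral X]

/-- The germ read in the function field. -/
def toFun (Q : X) : X.presheaf.stalk Q →+* X.functionField :=
  (X.presheaf.stalkSpecializes (genericPoint_specializes Q)).hom

theorem toFun_germ {Q : X} {U : X.Opens} (h : Q ∈ U) (a : Γ(X, U)) :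
    toFun Q (X.presheaf.germ U Q h a) = gm ((genericPoint_specializes Q).mem_open U.2 h) a :=
  TopCat.Presheaf.germ_stalkSpecializes_apply _ _ _ _

theorem toFun_injective (Q : X) : Function.Injective (toFun Q) := by
  rw [injective_iff_map_eq_zero]
  intro r hr
  obtain ⟨U, hQ, a, rfl⟩ := X.presheaf.exists_germ_eq r
  rw [toFun_germ] at hr
  rw [W7Pencil.gm_injective _ (hr.trans (map_zero _).symm)]
  exact map_zero _

theorem ffMap_toFun (σ : X ⟶ X) {Q : X} (e : σ Q = Q) (eσ : σ (genericPoint X) = genericPoint X)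
    (r : X.presheaf.stalk Q) : ffMap σ eσ (toFun Q r) = toFun Q (stalkEnd σ e r) := by
  obtain ⟨U, hQ, a, rfl⟩ := X.presheaf.exists_germ_eq r
  have hQ' : Q ∈ σ ⁻¹ᵁ U := by show σ Q ∈ U; rw [e]; exact hQ
  rw [toFun_germ, stalkEnd_germ σ e hQ hQ', toFun_germ]
  exact ffMap_gm σ eσ _ _ a

theorem map_genericPoint_of_involution (σ : X ⟶ X) (hσσ : σ ≫ σ = 𝟙 X) :
    σ (genericPoint X) = genericPoint X := by
  refine ((genericPoint_specializes (σ (genericPoint X))).antisymm ?_).eq.symm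
  have h := (genericPoint_specializes (σ (genericPoint X))).map σ.continuous
  rwa [show σ (σ (genericPoint X)) = genericPoint X by rw [← Scheme.Hom.comp_apply, hσσ]; rfl] at h

theorem gm_app_congr {f g : X ⟶ X} (h : f = g) {U : X.Opens} (hf : genericPoint X ∈ f ⁻¹ᵁ U)
    (hg : genericPoint X ∈ g ⁻¹ᵁ U) (a : Γ(X, U)) : gm hf ((f.app U).hom a) = gm hg ((g.app U).hom a) := by
  subst h; rfl

theorem ffMap_ffMap (σ : X ⟶ X) (hσσ : σ ≫ σ = 𝟙 X) (e : σ (genericPoint X) = genericPoint X)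
    (z : X.functionField) : ffMap σ e (ffMap σ e z) = z := by
  obtain ⟨U, hU, a, rfl⟩ := X.presheaf.exists_germ_eq z
  show ffMap σ e (ffMap σ e (gm hU a)) = gm hU a
  have h1 : genericPoint X ∈ σ ⁻¹ᵁ U := by show σ _ ∈ U; rw [e]; exact hU
  have h2 : genericPoint X ∈ σ ⁻¹ᵁ (σ ⁻¹ᵁ U) := by show σ _ ∈ σ ⁻¹ᵁ U; rw [e]; exact h1
  rw [ffMap_gm σ e hU h1, ffMap_gm σ e h1 h2]
  exact gm_app_congr (f := σ ≫ σ) (g := 𝟙 X) hσσ h2 hU a

theorem ffMap_algebraMap (σ : X ⟶ X) (hσ : σ ≫ (X ↘ Spec (CommRingCat.of k)) = X ↘ Spec (CommRingCat.of k))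
    (e : σ (genericPoint X) = genericPoint X) (c : k) :
    ffMap σ e (algebraMap k X.functionField c) = algebraMap k X.functionField c := by
  show ffMap σ e (gm (U := ⊤) trivial (Coh.toGlobal (X ↘ Spec (CommRingCat.of k)) c)) =
    gm (U := ⊤) trivial (Coh.toGlobal (X ↘ Spec (CommRingCat.of k)) c)
  rw [ffMap_gm σ e (U := ⊤) trivial trivial]
  refine congrArg (fun r : Γ(X, ⊤) => gm (U := ⊤) trivial r) ?_
  conv_rhs => rw [← hσ]
  show (σ.appTop).hom _ = _
  simp only [Coh.toGlobal, Scheme.Hom.comp_appTop]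
  rfl

end Groth.Agent.W7OnePole
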