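import Groth.Agent.W7OnePole.Basic
import Groth.Agent.CurveRR.Deg
import Groth.Agent.CurveRR.Tensor

/-!
# A function has no more zeros than poles
-/

set_option autoImplicit false
set_option linter.style.haveILetI false
set_option backward.isDefEq.respectTransparency false

universe u

open CategoryTheory CategoryTheory.Limits AlgebraicGeometry TopologicalSpace Opposite
open Groth.Agent Groth.Agent.CurveRR
open Groth.Agent.QC (res resO)
open Groth.Agent.W7Pencil (gm gm_injective gm_cst)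

noncomputable section

namespace Groth.Agent.W7OnePole

attribute [local instance] secMod Curv2.stalkAlgebra Curv2.resAlgebra

variable {k : Type u} [Field k] {X : Scheme.{u}} [IsIntegral X] [X.Over (Spec (CommRingCat.of k))]
  {J : X.Modules} {P : X} (O : OnePole J P)

theorem evaluation_cst {U : X.Opens} {Q : X} (hQ : Q ∈ U) (c : k) :
    (X.evaluation U Q hQ).hom (cst k X U c) = algebraMap k (X.residueField Q) c :=
  congrArg (X.residue Q).hom (TopCat.Presheaf.germ_res_apply X.presheaf (homOfLE (le_top : U ≤ ⊤)) Q hQ _)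

theorem OnePole.mem_U0_of_ne {Q : X} (h : Q ≠ P) : Q ∈ O.U0 := (O.off Q).2 h

/-- Values of the functions in a space at a point off the pole. -/
def OnePole.valAt (n : ℕ) {Q : X} (hQ : Q ∈ O.U0) : O.space k n →ₗ[k] X.residueField Q where
  toFun z := (X.evaluation O.U0 Q hQ).hom z.2.choose
  map_add' z w := by
    rw [← map_add]
    refine congrArg _ (gm_injective O.mem0 ?_)
    rw [map_add, (z + w).2.choose_spec.choose_spec.1, z.2.choose_spec.choose_spec.1,
      w.2.choose_spec.choose_spec.1]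
    rfl
  map_smul' c z := by
    have h : (c • z).2.choose = cst k X O.U0 c * z.2.choose := by
      refine gm_injective O.mem0 ?_
      rw [map_mul, gm_cst, (c • z).2.choose_spec.choose_spec.1, z.2.choose_spec.choose_spec.1, ← Algebra.smul_def]
      rfl
    rw [RingHom.id_apply, h, map_mul, Algebra.smul_def, evaluation_cst]

theorem OnePole.valAt_eq {n : ℕ} {Q : X} (hQ : Q ∈ O.U0) (z : O.space k n) (a : Γ(X, O.U0))
    (ha : gm O.mem0 a = (z : X.functionField)) : O.valAt n hQ z = (X.evaluation O.U0 Q hQ).hom a :=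
  congrArg (fun r => (X.evaluation O.U0 Q hQ).hom r)
    (gm_injective O.mem0 (z.2.choose_spec.choose_spec.1.trans ha.symm))

variable [IsProper (X ↘ Spec (CommRingCat.of k))]

theorem OnePole.finrank_space_large (hdim : topologicalKrullDim X ≤ 1)
    (h0 : h k (Coh.structureModule X) 0 = 1) {g : ℕ} (hg : Curv2.genus k X = g)
    (hJ : Curv2.deg k X J 1 = 1) {n : ℕ} (hn : 2 * g ≤ n + 1) :
    Module.finrank k (O.space k n) + g = n + 1 := by
  rw [O.finrank_space]
  have hd := deg_tensorPow (k := k) hdim O.inv n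
  rw [hJ] at hd
  have h := h0_eq_of_deg hdim h0 (TMul.isInvertible_tensorPow O.inv n) (by omega)
  omega

theorem OnePole.card_zeros_le (hdim : topologicalKrullDim X ≤ 1)
    (h0 : h k (Coh.structureModule X) 0 = 1) {g : ℕ} (hg : Curv2.genus k X = g)
    (hJ : Curv2.deg k X J 1 = 1) (S : Finset X) (hS : ∀ Q ∈ S, IsClosed ({Q} : Set X))
    (hSP : ∀ Q ∈ S, Q ≠ P) (hrat : ∀ Q ∈ S, Module.finrank k (X.residueField Q) = 1)
    {n : ℕ} {a : Γ(X, O.U0)} (ha : gm O.mem0 a ∈ O.space k n) (ha0 : a ≠ 0)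
    (hz : ∀ (Q : X) (hQ : Q ∈ S), (X.evaluation O.U0 Q (O.mem_U0_of_ne (hSP Q hQ))).hom a = 0) :
    S.card ≤ n := by
  classical
  haveI : ∀ Q : S, Module.Finite k (X.residueField Q.1) := fun Q => Module.finite_of_finrank_eq_succ (hrat Q.1 Q.2)
  -- functions with prescribed values
  have sep : ∀ Q : S, ∃ f : Γ(X, O.U0), (X.evaluation O.U0 Q.1 (O.mem_U0_of_ne (hSP _ Q.2))).hom f ≠ 0 ∧
      ∀ Q' : S, Q' ≠ Q → (X.evaluation O.U0 Q'.1 (O.mem_U0_of_ne (hSP _ Q'.2))).hom f = 0 := by
    intro Q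
    have hcl : IsClosed ((↑(S.erase Q.1) : Set X)) := by
      rw [← Set.biUnion_of_singleton (↑(S.erase Q.1) : Set X)]
      exact (S.erase Q.1).finite_toSet.isClosed_biUnion fun Q' hQ' => hS Q' (Finset.mem_of_mem_erase hQ')
    let V : X.Opens := ⟨(↑(S.erase Q.1) : Set X)ᶜ, hcl.isOpen_compl⟩
    obtain ⟨f, hfV, hfQ⟩ := O.aff0.exists_basicOpen_le (V := V) ⟨Q.1, fun h => (Finset.mem_erase.1 h).1 rfl⟩
      (O.mem_U0_of_ne (hSP _ Q.2))
    refine ⟨f, (X.evaluation_ne_zero_iff_mem_basicOpen _ _ f).2 hfQ, fun Q' hne => ?_⟩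
    refine (X.evaluation_eq_zero_iff_notMem_basicOpen _ _ f).2 fun hmem => hfV hmem ?_
    exact Finset.mem_erase.2 ⟨fun h => hne (Subtype.ext h), Q'.2⟩
  choose f hf hf' using sep
  obtain ⟨M, hM, hMf⟩ : ∃ M : ℕ, 2 * g ≤ M ∧ ∀ Q : S, gm O.mem0 (f Q) ∈ O.space k M := by
    choose m hm using fun Q : S => O.exists_mem_space (k := k) (f Q)
    exact ⟨2 * g + ∑ Q : S, m Q, Nat.le_add_right _ _, fun Q => O.space_mono (k := k)
      ((Finset.single_le_sum (fun _ _ => Nat.zero_le _) (Finset.mem_univ Q)).trans (Nat.le_add_left _ _)) (hm Q)⟩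
  have hMf' : ∀ Q : S, gm O.mem0 (f Q) ∈ O.space k (M + n) := fun Q =>
    O.space_mono (k := k) (Nat.le_add_right M n) (hMf Q)
  let Φ : O.space k (M + n) →ₗ[k] ∀ Q : S, X.residueField Q.1 :=
    LinearMap.pi fun Q => O.valAt (k := k) (M + n) (O.mem_U0_of_ne (hSP _ Q.2))
  have hΦ : Function.Surjective Φ := by
    intro v
    have hc : ∀ Q : S, ∃ c : k, c • (X.evaluation O.U0 Q.1 (O.mem_U0_of_ne (hSP _ Q.2))).hom (f Q) = v Q :=
      fun Q => (finrank_eq_one_iff_of_nonzero' _ (hf Q)).1 (hrat Q.1 Q.2) (v Q)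
    choose c hc using hc
    refine ⟨∑ Q : S, c Q • ⟨_, hMf' Q⟩, funext fun Q' => ?_⟩
    show O.valAt (k := k) (M + n) (O.mem_U0_of_ne (hSP _ Q'.2)) _ = _
    rw [map_sum, Finset.sum_eq_single Q' (fun Q _ hne => ?_) (fun h => absurd (Finset.mem_univ _) h),
      map_smul, O.valAt_eq _ _ (f Q') rfl, hc]
    rw [map_smul, O.valAt_eq _ _ (f Q) rfl, hf' Q Q' hne.symm, smul_zero]
  have hsp : ∀ z ∈ O.space k M, gm O.mem0 a * z ∈ O.space k (M + n) := fun z hz' => by
    rw [mul_comm]; exact O.space_mul hz' ha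
  let mulA : O.space k M →ₗ[k] O.space k (M + n) :=
    LinearMap.codRestrict _ ((LinearMap.mulLeft k (gm O.mem0 a)).comp (O.space k M).subtype) fun z => hsp z z.2
  have hinj : Function.Injective mulA := fun z w h => Subtype.ext (mul_left_cancel₀
    (fun h' => ha0 (gm_injective O.mem0 (h'.trans (map_zero _).symm))) (congrArg Subtype.val h))
  have hker : LinearMap.range mulA ≤ LinearMap.ker Φ := by
    rintro _ ⟨z, rfl⟩
    refine funext fun Q => ?_
    obtain ⟨b, hb⟩ : ∃ b, gm O.mem0 b = (z : X.functionField) := ⟨_, z.2.choose_spec.choose_spec.1⟩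
    show O.valAt (k := k) (M + n) (O.mem_U0_of_ne (hSP _ Q.2)) (mulA z) = 0
    rw [O.valAt_eq _ _ (a * b) (by rw [map_mul, hb]; rfl), map_mul, hz _ Q.2, zero_mul]
  haveI := O.finite_space (k := k) (M + n)
  haveI := O.finite_space (k := k) M
  have h1 := Φ.finrank_range_add_finrank_ker
  rw [LinearMap.range_eq_top.2 hΦ, finrank_top, Module.finrank_pi_fintype,
    Finset.sum_congr rfl fun (Q : S) _ => hrat Q.1 Q.2, Finset.sum_const, smul_eq_mul, mul_one,
    Finset.card_univ, Fintype.card_coe] at h1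
  have h2 : Module.finrank k (O.space k M) ≤ Module.finrank k (LinearMap.ker Φ) := by
    rw [← LinearMap.finrank_range_of_inj hinj]
    exact Submodule.finrank_mono hker
  have h3 := O.finrank_space_large (k := k) hdim h0 hg hJ (n := M) (by omega)
  have h4 := O.finrank_space_large (k := k) hdim h0 hg hJ (n := M + n) (by omega)
  omega

end Groth.Agent.W7OnePole
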