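import Groth.Agent.W7OnePole.Cubic
import Mathlib.AlgebraicGeometry.IdealSheaf.Basic
import Mathlib.AlgebraicGeometry.FunctionField
import Mathlib.AlgebraicGeometry.ProjectiveSpectrum.Proper

/-!
# An image which is a Weierstrass cubic
-/

set_option autoImplicit false
set_option linter.style.haveILetI false
set_option backward.isDefEq.respectTransparency false

universe u

open CategoryTheory AlgebraicGeometry TopologicalSpace
open Groth.Agent
open Groth.Agent.QC (res resO resO_resO resO_self)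

noncomputable section

namespace Groth.Agent.W7OnePole

variable {k : Type u} [Field k] {a₁ a₂ a₃ a₄ a₆ : k}

/-- A morphism of an integral scheme meeting `Z ≠ 0`, whose kernel there is the cubic, has it everywhere. -/
theorem ker_eq_hypIdeal {X : Scheme.{u}} [IsIntegral X] (f : X ⟶ PicPn.P 2 k) [QuasiCompact f]
    (hη : f (genericPoint X) ∈ PicPn.ch (k := k) (2 : Fin (2 + 1)))
    (hker : RingHom.ker (f.app (PicPn.ch (k := k) (2 : Fin (2 + 1)))).hom = Ideal.span
      {GrT.deh (CohB1.polyGrading 2 k) (PicPn.X_mem (2 : Fin (2 + 1))) (weier k a₁ a₂ a₃ a₄ a₆)}) :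
    f.ker = LefPen.hypIdeal (weierForm k a₁ a₂ a₃ a₄ a₆) := by
  let W := weier k a₁ a₂ a₃ a₄ a₆
  let C : Fin (2 + 1) → (PicPn.P 2 k).affineOpens := fun l => ⟨PicPn.ch (k := k) l, PicPn.isAffineOpen_ch l⟩
  let d : ∀ l : Fin (2 + 1), Γ(PicPn.P 2 k, PicPn.ch (k := k) l) :=
    fun l => GrT.deh (CohB1.polyGrading 2 k) (PicPn.X_mem l) W
  have hC : ∀ l, f.ker.ideal (C l) = Ideal.span {d l} := by
    intro l
    obtain rfl | hl := eq_or_ne l 2
    · rw [Scheme.Hom.ker_apply]; exact hker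
    let U : (PicPn.P 2 k).Opens := (PicPn.P 2 k).basicOpen (PicPn.z (k := k) l 2)
    have hU : IsAffineOpen U := (PicPn.isAffineOpen_ch l).basicOpen _
    have hUl : U ≤ PicPn.ch (k := k) l := Scheme.basicOpen_le _ _
    have hU2 : U ≤ PicPn.ch (k := k) 2 := (PicPn.ch_inf (k := k) l 2).ge.trans inf_le_right
    have hmap2 : (Ideal.span {d 2}).map (resO _ hU2) = f.ker.ideal ⟨U, hU⟩ := by
      rw [← Scheme.IdealSheafData.map_ideal f.ker (U := ⟨U, hU⟩) (V := C 2) hU2, Scheme.Hom.ker_apply]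
      exact congrArg _ hker.symm
    have hmapl : (Ideal.span {d l}).map (resO _ hUl) = f.ker.ideal ⟨U, hU⟩ := by
      rw [← hmap2, Ideal.map_span, Ideal.map_span, Set.image_singleton, Set.image_singleton,
        show resO _ hUl (d l) = resO _ hUl (GrT.deh (CohB1.polyGrading 2 k) (PicPn.X_mem l) (MvPolynomial.X 2 ^ 3)) *
          resO _ hU2 (d 2) from
          GrT.deh_cross (CohB1.polyGrading 2 k) (PicPn.X_mem l) (PicPn.X_mem 2) (weier_mem k a₁ a₂ a₃ a₄ a₆) hUl hU2]
      exact Ideal.span_singleton_mul_left_unit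
        (GrT.isUnit_deh_pow (CohB1.polyGrading 2 k) (PicPn.X_mem l) (PicPn.X_mem 2) 3 hUl hU2) _
    letI := ((PicPn.P 2 k).presheaf.map (homOfLE hUl).op).hom.toAlgebra
    haveI : IsLocalization.Away (PicPn.z (k := k) l 2) Γ(PicPn.P 2 k, U) :=
      (PicPn.isAffineOpen_ch (k := k) l).isLocalization_basicOpen _
    apply le_antisymm
    · intro h hh
      have h1 : resO _ hUl h ∈ f.ker.ideal ⟨U, hU⟩ := by
        rw [← Scheme.IdealSheafData.map_ideal f.ker (U := ⟨U, hU⟩) (V := C l) hUl]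
        exact Ideal.mem_map_of_mem _ hh
      rw [← hmapl] at h1
      obtain ⟨⟨⟨b, hb⟩, ⟨c, N, rfl⟩⟩, hbc⟩ := (IsLocalization.mem_map_algebraMap_iff
        (Submonoid.powers (PicPn.z (k := k) l 2)) Γ(PicPn.P 2 k, U)).1 h1
      change algebraMap _ Γ(PicPn.P 2 k, U) h * _ = _ at hbc
      rw [← map_mul] at hbc
      obtain ⟨⟨c, M, rfl⟩, hM⟩ := (IsLocalization.eq_iff_exists (Submonoid.powers (PicPn.z (k := k) l 2))
        Γ(PicPn.P 2 k, U)).1 hbc
      rw [Ideal.mem_span_singleton] at hb ⊢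
      refine dvd_of_dvd_pow_mul (a₁ := a₁) (a₂ := a₂) (a₃ := a₃) (a₄ := a₄) (a₆ := a₆) l hl h (M + N) ?_
      rw [pow_add, mul_assoc, mul_comm (_ ^ N) h, show PicPn.z (k := k) l 2 ^ M * (h * _) = _ from hM]
      exact Dvd.dvd.mul_left hb _
    · rw [Ideal.span_le, Set.singleton_subset_iff, SetLike.mem_coe, Scheme.Hom.ker_apply, RingHom.mem_ker]
      by_cases hηl : genericPoint X ∈ f ⁻¹ᵁ PicPn.ch (k := k) l
      · have h1 : resO _ hUl (d l) ∈ (f.ker.ideal (C l)).map (resO _ hUl) := by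
          erw [Scheme.IdealSheafData.map_ideal f.ker (U := ⟨U, hU⟩) (V := C l) hUl]
          rw [← hmapl]
          exact Ideal.mem_map_of_mem _ (Ideal.mem_span_singleton_self _)
        obtain ⟨⟨⟨b, hb⟩, ⟨c, N, rfl⟩⟩, hbc⟩ := (IsLocalization.mem_map_algebraMap_iff
          (Submonoid.powers (PicPn.z (k := k) l 2)) Γ(PicPn.P 2 k, U)).1 h1
        change algebraMap _ Γ(PicPn.P 2 k, U) (d l) * _ = _ at hbc
        rw [← map_mul] at hbc
        obtain ⟨⟨c, M, rfl⟩, hM⟩ := (IsLocalization.eq_iff_exists (Submonoid.powers (PicPn.z (k := k) l 2))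
          Γ(PicPn.P 2 k, U)).1 hbc
        haveI : Nonempty (f ⁻¹ᵁ PicPn.ch (k := k) l) := ⟨⟨_, hηl⟩⟩
        rw [Scheme.Hom.ker_apply, RingHom.mem_ker] at hb
        have h3 := congrArg (f.app (PicPn.ch (k := k) l)).hom hM
        simp only [map_mul, map_pow] at h3
        erw [hb, mul_zero] at h3
        have hz : (f.app (PicPn.ch (k := k) l)).hom (PicPn.z (k := k) l 2) ≠ 0 := by
          intro hz
          have hmem : genericPoint X ∈ f ⁻¹ᵁ U := (PicPn.ch_inf (k := k) l 2).le ⟨hηl, hη⟩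
          have e := Scheme.preimage_basicOpen f (PicPn.z (k := k) l 2)
          rw [show f ⁻¹ᵁ U = _ from e] at hmem
          rw [hz, Scheme.basicOpen_zero] at hmem
          exact hmem
        simpa [hz] using h3
      · have hbot : f ⁻¹ᵁ PicPn.ch (k := k) l = ⊥ := le_bot_iff.1 fun x hx => (hηl
          (((genericPoint_spec X).mem_open_set_iff (f ⁻¹ᵁ PicPn.ch (k := k) l).2).2 ⟨x, trivial, hx⟩)).elim
        have : Subsingleton Γ(X, f ⁻¹ᵁ PicPn.ch (k := k) l) := by rw [hbot]; infer_instance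
        exact Subsingleton.elim _ _
  apply le_antisymm
  · refine Scheme.IdealSheafData.le_ofIdeals_iff.2 fun U h hh => Ideal.mem_iInf.2 fun i => ?_
    have hUi : IsAffineOpen (U.1 ⊓ PicPn.ch (k := k) i) := U.2.inf (PicPn.isAffineOpen_ch i)
    have h1 := Ideal.mem_map_of_mem ((PicPn.P 2 k).presheaf.map
      (homOfLE (inf_le_left : U.1 ⊓ PicPn.ch (k := k) i ≤ U.1)).op).hom hh
    erw [Scheme.IdealSheafData.map_ideal f.ker (U := ⟨_, hUi⟩) (V := U)
      (inf_le_left : U.1 ⊓ PicPn.ch (k := k) i ≤ U.1),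
      ← Scheme.IdealSheafData.map_ideal f.ker (U := ⟨_, hUi⟩) (V := C i)
        (inf_le_right : U.1 ⊓ PicPn.ch (k := k) i ≤ PicPn.ch (k := k) i), hC, Ideal.map_span,
      Set.image_singleton] at h1
    rw [Ideal.mem_comap, dehom_eq_deh]
    exact h1
  · refine Scheme.IdealSheafData.le_of_iSup_eq_top C
      (top_le_iff.1 fun y _ => Opens.mem_iSup.2 (PicPn.exists_mem_ch y)) fun l h hh => ?_
    have h1 := Ideal.mem_iInf.1 (Scheme.IdealSheafData.ideal_ofIdeals_le _ (C l) hh) l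
    rw [Ideal.mem_comap, Ideal.mem_span_singleton] at h1
    obtain ⟨c, hc⟩ := h1
    rw [hC, Ideal.mem_span_singleton]
    refine ⟨resO _ (le_inf le_rfl le_rfl) c, ?_⟩
    have := congrArg (resO (PicPn.P 2 k)
      (le_inf le_rfl le_rfl : PicPn.ch (k := k) l ≤ PicPn.ch (k := k) l ⊓ PicPn.ch (k := k) l)) hc
    rw [map_mul, dehom_eq_deh] at this
    refine Eq.trans ?_ (this.trans ?_)
    · exact ((resO_resO _ _ h).trans (resO_self _ _)).symm
    · exact congrArg (· * _) ((resO_resO _ _ _).trans (resO_self _ _))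

end Groth.Agent.W7OnePole
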