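import Groth.Agent.W7OnePole.GenusOne
import Groth.Agent.W7OnePole.CubicKer
import Groth.Agent.CurveVA.Main

/-!
# The plane cubic of a rational point of a curve of genus one
-/

set_option autoImplicit false
set_option linter.style.haveILetI false
set_option backward.isDefEq.respectTransparency false

universe u

open CategoryTheory CategoryTheory.Limits AlgebraicGeometry TopologicalSpace Opposite
open Groth.Agent Groth.Agent.CurveRR
open Groth.Agent.QC (res resO res_res res_self res_smul resO_resO resO_self app_res)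
open TMul (IsGen pw homOf)
open Groth.Agent.W7Pencil (gm gm_injective gm_resO gm_cst)

noncomputable section

namespace Groth.Agent.W7OnePole

attribute [local instance] secMod Curv2.stalkAlgebra Curv2.resAlgebra

theorem genLocus_app {X : Scheme.{u}} {L L' : X.Modules} (e : L ≅ L') (t : Γ(L, ⊤)) :
    CohB1.genLocus L' (homOf (e.hom.app ⊤ t)) = CohB1.genLocus L (homOf t) := by
  rw [← TMul.genLocus_comp (homOf t) e.hom]
  congr 1
  apply Scheme.Modules.hom_ext
  intro U
  ext a
  rw [TMul.app_eq_smul, TMul.app_eq_smul, TMul.val_homOf, TMul.val_comp, TMul.val_homOf]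
  exact congrArg _ (app_res _ _ _)

theorem exists_iso_of_ker {X Y : Scheme.{u}} (f : X ⟶ Y) [IsClosedImmersion f] (I : Y.IdealSheafData)
    (h : f.ker = I) : ∃ e : X ≅ I.subscheme, e.hom ≫ I.subschemeι = f := by
  subst h
  exact ⟨asIso f.toImage, f.toImage_imageι⟩

variable {k : Type u} [Field k] {X : Scheme.{u}} [IsIntegral X] [X.Over (Spec (CommRingCat.of k))]
  [IsProper (X ↘ Spec (CommRingCat.of k))] [GeometricallyIntegral (X ↘ Spec (CommRingCat.of k))]
  {J : X.Modules} {P : X} (O : OnePole J P)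

theorem OnePole.exists_cubic_of (hdim : topologicalKrullDim X = 1)
    (h0 : h k (Coh.structureModule X) 0 = 1) (hg : Curv2.genus k X = 1) (hJ : Curv2.deg k X J 1 = 1)
    (hP : Module.finrank k (X.residueField P) = 1) {x y : X.functionField}
    (hx : O.Exact k 2 x) (hy : O.Exact k 3 y) {a₁ a₂ a₃ a₄ a₆ : k}
    (heq : y ^ 2 + a₁ • (x * y) + a₃ • y = x ^ 3 + a₂ • x ^ 2 + a₄ • x + a₆ • 1) :
    ∃ f : X ⟶ CohB1.ProjSpace 2 k,
      f ≫ CohB1.ProjSpace.toSpec 2 k = X ↘ Spec (CommRingCat.of k) ∧ IsClosedImmersion f ∧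
      f.ker = LefPen.hypIdeal (weierForm k a₁ a₂ a₃ a₄ a₆) := by
  haveI := isNoetherian_of_proper k X
  have hind := O.eq_zero_of_aeval_add (k := k) hx hy
  set L := CohB1.tensorPow J 3 with hLdef
  have hL : PicF.IsInvertible L := TMul.isInvertible_tensorPow O.inv 3
  have hdegL : Curv2.deg k X L 1 = 3 := by
    have := deg_tensorPow (k := k) hdim.le O.inv 3
    rw [hJ] at this; simpa using this
  obtain ⟨σx, hσx⟩ := (O.range_toFF (k := k) 3).ge (O.space_mono (k := k) (by omega) hx.1)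
  obtain ⟨σy, hσy⟩ := (O.range_toFF (k := k) 3).ge hy.1
  let σ : Fin (2 + 1) → Γ(L, ⊤) := ![σx, σy, pw O.s 3]
  have hc2 : O.coef0 3 (pw O.s 3) = 1 := O.coef0_unique 3 _ 1 (by rw [one_smul, TMul.res_pw])
  have hσ : ∀ i, O.toFF k 3 (σ i) = ![x, y, 1] i := fun i => by
    fin_cases i
    · exact hσx
    · exact hσy
    · show gm O.mem0 (O.coef0 3 (pw O.s 3)) = 1
      rw [hc2, map_one]
  have hli : LinearIndependent k σ := by
    refine LinearIndependent.of_comp (O.toFF k 3) (Fintype.linearIndependent_iff.2 fun c hc => ?_)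
    simp only [Function.comp_apply, Fin.sum_univ_succ, Finset.univ_unique, Fin.default_eq_zero,
      Finset.sum_singleton] at hc
    have hc' : c 0 • O.toFF k 3 (σ 0) + (c 1 • O.toFF k 3 (σ 1) + c 2 • O.toFF k 3 (σ 2)) = 0 := hc
    rw [hσ 0, hσ 1, hσ 2] at hc'
    change c 0 • x + (c 1 • y + c 2 • 1) = 0 at hc'
    simp only [Algebra.smul_def, mul_one] at hc'
    have := hind (Polynomial.C (c 2) + Polynomial.C (c 0) * Polynomial.X) (Polynomial.C (c 1)) (by
      rw [map_add, map_mul, Polynomial.aeval_C, Polynomial.aeval_C, Polynomial.aeval_C, Polynomial.aeval_X]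
      linear_combination hc')
    have h0' := congrArg (fun p : Polynomial k => p.coeff 1) this.1
    have h2' := congrArg (fun p : Polynomial k => p.coeff 0) this.1
    have h1' := congrArg (fun p : Polynomial k => p.coeff 0) this.2
    simp at h0' h1' h2'
    intro i
    fin_cases i
    exacts [h0', h1', h2']
  have hcard : Module.finrank k Γ(L, ⊤) = 2 + 1 := by
    rw [finrank_sec, ← O.finrank_space (k := k) 3, O.finrank_space_of_pos hdim.le h0 hg hJ (by omega)]
  let b : Module.Basis (Fin (2 + 1)) k Γ(L, ⊤) :=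
    basisOfLinearIndependentOfCardEqFinrank hli (by rw [hcard, Fintype.card_fin])
  have hb : ∀ i, b i = σ i := fun i => by
    rw [show (b : Fin (2 + 1) → Γ(L, ⊤)) = σ from coe_basisOfLinearIndependentOfCardEqFinrank _ _]
  have hgl : ∀ z : X, ∃ t : Γ(L, ⊤), z ∈ CohB1.genLocus L (homOf t) := fun z => by
    obtain ⟨w, hw, hwc⟩ := (isClosed_closure (s := ({z} : Set X))).exists_closed_singleton ⟨z, subset_closure rfl⟩
    obtain ⟨t, ht⟩ := exists_mem_genLocus (k := k) hdim.le h0 hL (by rw [hdegL, hg]; norm_num) hwc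
    exact ⟨t, (specializes_iff_mem_closure.mpr hw).mem_open (CohB1.genLocus L (homOf t)).2 ht⟩
  obtain ⟨f, hf, τ0, hτ⟩ := ProjMor.exists_projSpace (X ↘ Spec (CommRingCat.of k)) hL (fun i => b i)
    (CurveVA.generatedBy_of_basis b hgl)
  let τ : CurveVA.O1 f ≅ L := τ0
  have hci : IsClosedImmersion f := by
    refine CurveVA.isClosedImmersion_f f hdim hf ?_ ?_ fun t => ⟨fun i => b.repr (τ.hom.app ⊤ t) i,
      (ConcreteCategory.bijective_of_isIso (τ.hom.app ⊤)).1 (by
      conv_lhs => rw [← b.sum_repr (τ.hom.app ⊤ t)]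
      rw [ProjMor.pull1_linForms, hf, map_sum]
      refine Finset.sum_congr rfl fun i _ => ?_
      refine Eq.trans ?_ (TMul.app_smul τ.hom _ _).symm
      refine Eq.trans ?_ (congrArg (fun s : Γ(L, ⊤) =>
        ProjUP.toGlobal (X ↘ Spec (CommRingCat.of k)) (b.repr (τ.hom.app ⊤ t) i) • s) (hτ i)).symm
      show CurveRR.cst k X ⊤ (b.repr (τ.hom.app ⊤ t) i) • b i = _
      exact congrArg (fun c : Γ(X, ⊤) => c • b i) (resO_self (le_top : (⊤ : X.Opens) ≤ ⊤) _))⟩
    · rw [Curv2.deg, show Curv2.euler k X (CurveVA.O1 f) = Curv2.euler k X L from euler_eq_of_iso τ, ← Curv2.deg]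
      omega
    · rw [show h k (CurveVA.O1 f) 0 = h k L 0 from h_eq_of_iso τ 0, ← finrank_sec, hcard, hg]
      norm_num
  refine ⟨f, hf, hci, ?_⟩
  have hp : ∀ i, τ.hom.app ⊤ (ProjMor.pull1 f (PicPn.X_mem (k := k) i)) = σ i := fun i => by
    rw [← hb i, ← hτ i]
    exact congrArg _ (by rw [← ProjMor.pull1_X]; congr 1; simp [ProjMor.linForms])
  -- the preimage of the chart
  have hloc : f ⁻¹ᵁ PicPn.ch (k := k) (2 : Fin (2 + 1)) = O.U0 := by
    rw [← ProjMor.genLocus_pull1 (ProjMor.genDegOne_projSpace 2 k) f (PicPn.X_mem (k := k) 2),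
      ← genLocus_app τ, hp]
    refine Opens.ext (Set.ext fun z => ?_)
    by_cases hz : z = P
    · subst hz
      refine iff_of_false (fun hmem => ?_) fun hmem => (O.off _).1 hmem rfl
      have hv : TMul.val (homOf (σ 2)) O.U1 = O.t1 ^ 3 • pw O.e1 3 := by
        rw [TMul.val_homOf]
        show res L le_top (pw O.s 3) = _
        rw [TMul.res_pw, O.rel1, TMul.pw_smul]
      have hu := (TMul.mem_genLocus_iff_isUnit _ (TMul.isGen_pw O.gen1 3) hv O.memP).1 hmem
      rw [map_pow, isUnit_pow_iff (by omega), ← X.mem_basicOpen] at hu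
      exact (X.evaluation_eq_zero_iff_notMem_basicOpen _ O.memP O.t1).1 O.tP hu
    · refine iff_of_true ?_ ((O.off z).2 hz)
      refine (TMul.mem_genLocus_iff_isUnit (homOf (σ 2)) (TMul.isGen_pw O.gen0 3) (c := 1) ?_
        ((O.off z).2 hz)).2 (by rw [map_one]; exact isUnit_one)
      rw [TMul.val_homOf, one_smul]
      show res L le_top (pw O.s 3) = _
      rw [TMul.res_pw]
  have hη : f (genericPoint X) ∈ PicPn.ch (k := k) (2 : Fin (2 + 1)) := by
    show genericPoint X ∈ f ⁻¹ᵁ PicPn.ch (k := k) (2 : Fin (2 + 1))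
    rw [hloc]; exact O.mem0
  refine ker_eq_hypIdeal (a₁ := a₁) (a₂ := a₂) (a₃ := a₃) (a₄ := a₄) (a₆ := a₆) f hη ?_
  let φ : MvPolynomial (Fin (2 + 1)) k →+* X.functionField :=
    ((gm O.mem0).comp (ProjMor.ev f (PicPn.ch (k := k) (2 : Fin (2 + 1))) O.U0 hloc.ge)).comp
      (GrT.deh (CohB1.polyGrading 2 k) (PicPn.X_mem (k := k) 2))
  have hφ : φ = (MvPolynomial.aeval ![x, y, 1] : MvPolynomial (Fin (2 + 1)) k →ₐ[k] X.functionField).toRingHom := by
    refine MvPolynomial.ringHom_ext (fun c => ?_) (fun i => ?_)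
    · rw [AlgHom.toRingHom_eq_coe, RingHom.coe_coe, MvPolynomial.aeval_C, ← gm_cst O.mem0 c]
      refine congrArg (gm O.mem0) ?_
      show ProjMor.ev f _ O.U0 hloc.ge (GrT.deh (CohB1.polyGrading 2 k) _ (algebraMap k _ c)) = _
      rw [← ProjMor.res_toGlobal_base]
      have e := congrArg (resO X hloc.ge) (CurveVA.app_cst f hf (PicPn.ch (k := k) (2 : Fin (2 + 1))) c)
      refine Eq.trans ?_ (e.trans (resO_resO _ _ _))
      rw [← Scheme.Hom.appLE_eq_app]
      exact (ProjMor.ev_res f le_rfl hloc.ge _).symm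
    · rw [AlgHom.toRingHom_eq_coe, RingHom.coe_coe, MvPolynomial.aeval_X, ← hσ i]
      show gm O.mem0 (ProjMor.ev f _ O.U0 hloc.ge _) = gm O.mem0 (O.coef0 3 (σ i))
      refine congrArg _ (O.coef0_unique 3 _ _ ?_).symm
      have e := congrArg (τ.hom.app O.U0)
        (ProjMor.res_pull1 f (PicPn.X_mem (k := k) 2) (PicPn.X_mem (k := k) i) hloc.ge)
      rw [TMul.app_smul, ← app_res, ← app_res, hp, hp] at e
      rw [e]
      congr 1
      show _ = res L le_top (pw O.s 3)
      rw [TMul.res_pw]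
  have hW : φ (weier k a₁ a₂ a₃ a₄ a₆) = 0 := by
    rw [hφ]
    simp only [Algebra.smul_def, mul_one] at heq
    simp only [weier, AlgHom.toRingHom_eq_coe, RingHom.coe_coe, map_add, map_sub, map_mul, map_pow,
      MvPolynomial.aeval_X, MvPolynomial.aeval_C, Matrix.cons_val_zero, Matrix.cons_val_one, Matrix.cons_val]
    linear_combination heq
  have hev : ∀ A, (f.app (PicPn.ch (k := k) (2 : Fin (2 + 1)))).hom
      (GrT.deh (CohB1.polyGrading 2 k) (PicPn.X_mem (k := k) 2) A) = 0 ↔ φ A = 0 := by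
    intro A
    have e : φ A = gm (show genericPoint X ∈ f ⁻¹ᵁ PicPn.ch (k := k) (2 : Fin (2 + 1)) from hη)
        ((f.app _).hom (GrT.deh (CohB1.polyGrading 2 k) (PicPn.X_mem (k := k) 2) A)) := by
      rw [← gm_resO hloc.ge O.mem0, ← Scheme.Hom.appLE_eq_app]
      exact congrArg (gm O.mem0) (ProjMor.ev_res f le_rfl hloc.ge _).symm
    rw [e]
    exact ⟨fun h => by rw [h, map_zero], fun h => gm_injective _ (h.trans (map_zero _).symm)⟩
  refine le_antisymm (fun h hh => ?_) ?_
  · obtain ⟨A, rfl⟩ := ProjMor.exists_deh_eq (PicPn.X_mem (k := k) 2) h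
    obtain ⟨p, q, hpq⟩ := exists_linear (a₁ := a₁) (a₂ := a₂) (a₃ := a₃) (a₄ := a₄) (a₆ := a₆) A
    obtain ⟨u, v, huv⟩ := Ideal.mem_span_pair.1 hpq
    have hA : φ A = 0 := (hev A).1 hh
    have h1 := congrArg φ huv
    simp only [map_add, map_mul, map_sub, hW, hA, map_one, mul_zero, zero_add, zero_sub] at h1
    have hX : ∀ i, φ (MvPolynomial.X i) = ![x, y, 1] i := fun i => by
      rw [hφ]; simp
    have hpv : ∀ r : Polynomial k, φ (Polynomial.aeval (MvPolynomial.X (0 : Fin (2 + 1))) r) = Polynomial.aeval x r := by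
      intro r
      rw [hφ]
      show MvPolynomial.aeval ![x, y, 1] (Polynomial.aeval (MvPolynomial.X (0 : Fin (2 + 1))) r) = _
      rw [← Polynomial.aeval_algHom_apply, MvPolynomial.aeval_X]
      rfl
    rw [hpv, hpv, hX, hX, show (![x, y, 1] : Fin (2 + 1) → X.functionField) 2 = 1 from rfl, sub_self, mul_zero] at h1
    obtain ⟨rfl, rfl⟩ := hind p q (neg_eq_zero.1 h1.symm)
    simp only [map_zero, zero_mul, add_zero, sub_zero] at huv
    rw [Ideal.mem_span_singleton, ← huv, map_add, map_mul, map_mul, map_sub, map_one, GrT.deh_self, sub_self,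
      mul_zero, add_zero]
    exact dvd_mul_left _ _
  · rw [Ideal.span_le, Set.singleton_subset_iff, SetLike.mem_coe, RingHom.mem_ker]
    exact (hev _).2 hW

include O in
theorem OnePole.exists_cubic (hdim : topologicalKrullDim X = 1)
    (h0 : h k (Coh.structureModule X) 0 = 1) (hg : Curv2.genus k X = 1) (hJ : Curv2.deg k X J 1 = 1)
    (hP : Module.finrank k (X.residueField P) = 1) :
    ∃ (a₁ a₂ a₃ a₄ a₆ : k) (f : X ⟶ CohB1.ProjSpace 2 k),
      f ≫ CohB1.ProjSpace.toSpec 2 k = X ↘ Spec (CommRingCat.of k) ∧ IsClosedImmersion f ∧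
      f.ker = LefPen.hypIdeal (weierForm k a₁ a₂ a₃ a₄ a₆) := by
  obtain ⟨x, y, a₁, a₂, a₃, a₄, a₆, hx, hy, heq, -, -⟩ :=
    O.exists_weierstrass (k := k) hdim.le h0 hg hJ hP
  exact ⟨a₁, a₂, a₃, a₄, a₆, O.exists_cubic_of (k := k) hdim h0 hg hJ hP hx hy heq⟩

end Groth.Agent.W7OnePole
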