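import Groth.Agent.W7OnePole.Basic
import Groth.Agent.CurveCompl.AffineOpen
import Groth.Agent.CurveRR.SmoothPt
import Groth.Agent.CurveRR.RatPoint
import Groth.Agent.W7Hull.InvDual

/-!
# The module of a rational point
-/

set_option autoImplicit false
set_option linter.style.haveILetI false
set_option backward.isDefEq.respectTransparency false

universe u

open CategoryTheory CategoryTheory.Limits AlgebraicGeometry TopologicalSpace Opposite
open Groth.Agent Groth.Agent.CurveRR
open Groth.Agent.QC (res resO res_res res_smul resO_resO res_self app_res)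
open TMul (IsGen homOf tm)

noncomputable section

namespace Groth.Agent.W7OnePole

variable {k : Type u} [Field k] {X : Scheme.{u}} [IsIntegral X] [X.Over (Spec (CommRingCat.of k))]
  [IsProper (X ↘ Spec (CommRingCat.of k))]

/-- A regular rational point of a curve carries a module of degree one with one simple zero there. -/
theorem exists_onePole (hdX : topologicalKrullDim X = 1) {P : X} (hP : IsClosed ({P} : Set X))
    (s : Spec (CommRingCat.of k) ⟶ X) (hs : s ≫ (X ↘ Spec (CommRingCat.of k)) = 𝟙 _)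
    (hsP : ∀ p, s p = P) (hreg : IsRegularLocalRing (X.presheaf.stalk P)) :
    ∃ (J : X.Modules) (_ : OnePole J P), Curv2.deg k X J 1 = 1 := by
  haveI := isNoetherian_of_proper k X
  have hne := genericPoint_ne_of_closed (k := k) hdX hP
  have hI := isInvertible_pointIdeal hdX.le hP hne hreg
  obtain ⟨J, hJ, ⟨e⟩⟩ := W7Hull.exists_tensor_inverse hI
  have hdeg : Curv2.deg k X J 1 = 1 := by
    have h := euler_ratPointIdeal (k := k) hP s hs hsP hJ
    rw [euler_eq_of_iso e] at h
    rw [Curv2.deg]; push_cast; omega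
  set I := Scheme.IdealSheafData.vanishingIdeal ⟨{P}, hP⟩ with hIdef
  let w : Γ(CohB1.tensorMod (ClSub.idealMod I) J, ⊤) := e.inv.app ⊤ (1 : Γ(X, ⊤))
  let σ : Γ(J, ⊤) := (idealIncl I J).app ⊤ w
  -- the section near a point, in terms of generators
  have key : ∀ x : X, ∃ (V : X.Opens) (hV : IsAffineOpen V) (t : Γ(X, V)) (m : Γ(J, V)), x ∈ V ∧ IsGen m ∧
      res J le_top σ = t • m ∧ I.ideal ⟨V, hV⟩ = Ideal.span {t} := by
    intro x
    obtain ⟨D, a, hxD, ha⟩ := TMul.exists_isGen hI x
    obtain ⟨D', m, hxD', hm⟩ := TMul.exists_isGen hJ x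
    obtain ⟨V, hV, hxV, hVD⟩ := exists_isAffineOpen_mem_and_subset (U := D ⊓ D') (x := x) ⟨hxD, hxD'⟩
    have ha' := ha.res (hVD.trans inf_le_left)
    have hm' := hm.res (hVD.trans inf_le_right)
    set a' := res (ClSub.idealMod I) (hVD.trans inf_le_left) a
    set m' := res J (hVD.trans inf_le_right) m
    have hb := TMul.isGen_tm ha' hm'
    have hw : IsGen (res (CohB1.tensorMod (ClSub.idealMod I) J) (le_top : V ≤ ⊤) w) := by
      intro W hW
      rw [show (fun c : Γ(X, W) => c • res (CohB1.tensorMod (ClSub.idealMod I) J) hW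
          (res (CohB1.tensorMod (ClSub.idealMod I) J) le_top w)) =
        fun c : Γ(X, W) => e.inv.app W c from funext fun c => by
          rw [res_res]
          show c • res (CohB1.tensorMod (ClSub.idealMod I) J) _ (e.inv.app ⊤ (1 : Γ(X, ⊤))) = _
          rw [app_res, ← TMul.app_smul]
          exact congrArg _ (by
            show c * resO X le_top (1 : Γ(X, ⊤)) = c
            rw [map_one, mul_one])]
      exact ConcreteCategory.bijective_of_isIso (C := AddCommGrpCat) (e.inv.app W)
    obtain ⟨u, hu⟩ := (hb V le_rfl).2 (res (CohB1.tensorMod (ClSub.idealMod I) J) le_top w)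
    obtain ⟨v, hv⟩ := (hw V le_rfl).2 (tm a' m')
    simp only [res_self] at hu hv
    have huv : v * u = 1 := (hb V le_rfl).1 (by
      simp only [res_self]
      rw [mul_smul, hu, hv, one_smul])
    have huu : IsUnit u := IsUnit.of_mul_eq_one v (by rw [mul_comm]; exact huv)
    refine ⟨V, hV, u * (show Γ(X, V) from (ClSub.idealModι I).app V a'), m', hxV, hm', ?_, ?_⟩
    · show res J le_top ((idealIncl I J).app ⊤ w) = _
      rw [app_res, ← hu, TMul.app_smul, idealIncl_tm, smul_smul]
    · rw [Ideal.span_singleton_mul_left_unit huu]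
      ext c
      rw [← Groth.Agent.QC.mem_range_idealModι_affine I ⟨V, hV⟩ c, Ideal.mem_span_singleton']
      constructor
      · rintro ⟨z, rfl⟩
        obtain ⟨r, hr⟩ := (ha' V le_rfl).2 z
        simp only [res_self] at hr
        exact ⟨r, by rw [← hr, TMul.app_smul]; rfl⟩
      · rintro ⟨r, rfl⟩
        exact ⟨r • a', by rw [TMul.app_smul]; rfl⟩
  have hzero : ∀ (V : X.Opens) (hV : IsAffineOpen V) (t : Γ(X, V)), I.ideal ⟨V, hV⟩ = Ideal.span {t} →
      ∀ x ∈ V, (x ∈ X.basicOpen t ↔ x ≠ P) := by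
    intro V hV t ht x hx
    have h := I.coe_support_inter ⟨V, hV⟩
    rw [ht, Scheme.zeroLocus_span, Scheme.zeroLocus_singleton,
      hIdef, Scheme.IdealSheafData.coe_support_vanishingIdeal] at h
    have h1 := Set.ext_iff.1 h x
    simp only [Set.mem_inter_iff, Closeds.coe_mk, Set.mem_singleton_iff, Set.mem_compl_iff,
      SetLike.mem_coe, hx, and_true] at h1
    rw [ne_eq, h1, not_not]
  have hoff : ∀ x, x ∈ CohB1.genLocus J (homOf σ) ↔ x ≠ P := by
    intro x
    obtain ⟨V, hV, t, m, hxV, hm, hσ, ht⟩ := key x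
    rw [← hzero V hV t ht x hxV, ← TMul.genLocus_inf (homOf σ) hm (by rw [TMul.val_homOf]; exact hσ)]
    exact ⟨fun h => ⟨hxV, h⟩, fun h => h.2⟩
  obtain ⟨V, hV, t, m, hPV, hm, hσ, ht⟩ := key P
  set U0 := CohB1.genLocus J (homOf σ) with hU0
  have hPU0 : P ∉ U0 := fun h => (hoff P).1 h rfl
  have hη : genericPoint X ∈ U0 := (hoff _).2 hne
  have hdisc : DiscreteTopology ↥((U0 : Set X)ᶜ) := by
    haveI : Subsingleton ↥((U0 : Set X)ᶜ) := ⟨fun a b => Subtype.ext (by
      rw [not_not.1 fun h => a.2 ((hoff a.1).2 h), not_not.1 fun h => b.2 ((hoff b.1).2 h)])⟩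
    exact Subsingleton.discreteTopology
  refine ⟨J, ⟨hJ, σ, U0, V, m, ?_, hm, fun x _ => ?_, t, hσ, rfl, hoff,
    CurveCompl.isAffineOpen_of_ne_top k hdX ⟨_, hη⟩ hPU0 hdisc, hV, hη,
    ((genericPoint_spec X).mem_open_set_iff V.2).2 ⟨P, trivial, hPV⟩, hPV, ?_, fun b hb => ?_⟩, hdeg⟩
  · have := TMul.isGen_genLocus (homOf σ)
    rwa [TMul.val_homOf] at this
  · by_cases hx : x = P
    · exact Or.inr (hx ▸ hPV)
    · exact Or.inl ((hoff x).2 hx)
  · exact (X.evaluation_eq_zero_iff_notMem_basicOpen P hPV t).2 fun h => (hzero V hV t ht P hPV).1 h rfl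
  · rw [← Ideal.mem_span_singleton, ← ht, hIdef, Scheme.IdealSheafData.vanishingIdeal_ideal,
      PrimeSpectrum.mem_vanishingIdeal]
    intro q hq
    by_contra hqb
    have hmem : hV.fromSpec q ∈ X.basicOpen b := by
      have : q ∈ hV.fromSpec ⁻¹ᵁ X.basicOpen b := by rw [hV.fromSpec_preimage_basicOpen]; exact hqb
      exact this
    have hqP : hV.fromSpec q = P := hq
    rw [hqP] at hmem
    exact (X.evaluation_eq_zero_iff_notMem_basicOpen P hPV b).1 hb hmem

end Groth.Agent.W7OnePole
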