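import Groth.Agent.W7OnePole.Weierstrass
import Groth.Agent.NormSect.Basic

/-!
# The Legendre form
-/

set_option autoImplicit false
set_option linter.style.haveILetI false
set_option backward.isDefEq.respectTransparency false

universe u

open CategoryTheory CategoryTheory.Limits AlgebraicGeometry TopologicalSpace Opposite
open Groth.Agent Groth.Agent.CurveRR
open Groth.Agent.W7Pencil (gm gm_injective)

noncomputable section

namespace Groth.Agent.W7OnePole

attribute [local instance] secMod Curv2.stalkAlgebra Curv2.resAlgebra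

variable {k : Type u} [Field k] {X : Scheme.{u}} [IsIntegral X] [X.Over (Spec (CommRingCat.of k))]
  {J : X.Modules} {P : X} (O : OnePole J P)

theorem OnePole.Exact.add_low {n : ℕ} {z w : X.functionField} (hz : O.Exact k (n + 1) z) (hw : w ∈ O.space k n) :
    O.Exact k (n + 1) (z + w) := by
  obtain ⟨hz, hz'⟩ := hz
  have hw' := O.space_mono (k := k) (Nat.le_succ n) hw
  refine ⟨add_mem hz hw', ?_⟩
  rw [show (⟨z + w, add_mem hz hw'⟩ : O.space k (n + 1)) = ⟨z, hz⟩ + ⟨w, hw'⟩ from rfl, map_add,
    (O.lead_eq_zero_iff ⟨w, hw'⟩).2 hw, add_zero]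
  exact hz'

variable [IsProper (X ↘ Spec (CommRingCat.of k))]

theorem OnePole.no_double_root (hdim : topologicalKrullDim X ≤ 1)
    (h0 : h k (Coh.structureModule X) 0 = 1) (hg : Curv2.genus k X = 1) (hJ : Curv2.deg k X J 1 = 1)
    (hN : ∀ z : X, IsIntegrallyClosed (X.presheaf.stalk z))
    {x y : X.functionField} (hx : O.Exact k 2 x) {e e' : k}
    (h : y ^ 2 = (x - e • 1) ^ 2 * (x - e' • 1)) : False := by
  classical
  have he : ∀ c : k, O.Exact k 2 (x - c • 1) := fun c => by
    rw [sub_eq_add_neg, ← neg_smul]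
    exact OnePole.Exact.add_low O (n := 1) hx
      ((O.space k 1).smul_mem _ (O.space_mono (k := k) zero_le_one O.one_exact.1))
  have hne : x - e • 1 ≠ (0 : X.functionField) := (he e).ne_zero O
  let z := y / (x - e • 1)
  have hz2 : z ^ 2 = x - e' • 1 := by
    rw [div_pow, h, mul_div_cancel_left₀ _ (pow_ne_zero 2 hne)]
  obtain ⟨a, b, ha, -⟩ := (he e').1
  haveI : Nonempty O.U0 := ⟨⟨_, O.mem0⟩⟩
  haveI := NormSect.isIntegrallyClosed_sections O.U0 fun w _ => hN w
  haveI := functionField_isFractionRing_of_isAffineOpen X O.U0 O.aff0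
  have hint : IsIntegral Γ(X, O.U0) z := by
    refine IsIntegral.of_pow (n := 2) two_pos ?_
    rw [hz2, ← ha]
    exact isIntegral_algebraMap
  obtain ⟨c, hc⟩ := IsIntegrallyClosed.isIntegral_iff.1 hint
  obtain ⟨m, hm⟩ := O.exists_mem_space (k := k) c
  rw [show gm O.mem0 c = z from hc] at hm
  have hex : ∃ n, z ∈ O.space k n := ⟨m, hm⟩
  have h01 : O.space k 0 = O.space k 1 := by
    haveI := O.finite_space (k := k) 1
    exact Submodule.eq_of_le_of_finrank_eq (O.space_mono (k := k) zero_le_one)
      (by rw [O.finrank_space_of_pos hdim h0 hg hJ le_rfl, O.finrank_space_zero h0])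
  obtain hn | hn := Nat.eq_zero_or_pos (Nat.find hex)
  · have hz0 : z ∈ O.space k 0 := hn ▸ Nat.find_spec hex
    have := O.space_mono (k := k) zero_le_one (O.space_mul hz0 hz0)
    rw [← pow_two, hz2] at this
    exact (he e').2 ((O.lead_eq_zero_iff ⟨_, (he e').1⟩).2 this)
  · obtain ⟨j, hj⟩ := Nat.exists_eq_add_of_le hn
    rw [add_comm] at hj
    have hzj : z ∈ O.space k (j + 1) := hj ▸ Nat.find_spec hex
    have hnot : z ∉ O.space k j := Nat.find_min hex (by omega)
    have hexact : O.Exact k (j + 1) z := ⟨hzj, fun h => hnot ((O.lead_eq_zero_iff ⟨z, hzj⟩).1 h)⟩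
    have h2 := hexact.pow O 2
    rw [hz2] at h2
    have := (he e').eq O h2
    obtain rfl : j = 0 := by omega
    exact hnot (h01.symm.le hzj)

variable [GeometricallyIntegral (X ↘ Spec (CommRingCat.of k))]

include O in
theorem OnePole.exists_legendre [IsAlgClosed k] (h2 : (2 : k) ≠ 0) (hdim : topologicalKrullDim X = 1)
    (h0 : h k (Coh.structureModule X) 0 = 1) (hg : Curv2.genus k X = 1) (hJ : Curv2.deg k X J 1 = 1)
    (hP : Module.finrank k (X.residueField P) = 1) (hN : ∀ z : X, IsIntegrallyClosed (X.presheaf.stalk z)) :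
    ∃ (l : k) (f : X ⟶ CohB1.ProjSpace 2 k), l ≠ 0 ∧ l ≠ 1 ∧
      f ≫ CohB1.ProjSpace.toSpec 2 k = X ↘ Spec (CommRingCat.of k) ∧ IsClosedImmersion f ∧
      f.ker = LefPen.hypIdeal (weierForm k 0 (-(1 + l)) 0 l 0) := by
  obtain ⟨x, y, a₁, a₂, a₃, a₄, a₆, hx, hy, heq, -, -⟩ :=
    O.exists_weierstrass (k := k) hdim.le h0 hg hJ hP
  simp only [Algebra.smul_def, mul_one] at heq
  let w := y + ((a₁ / 2) • x + (a₃ / 2) • (1 : X.functionField))
  have hw : O.Exact k 3 w := OnePole.Exact.add_low O (n := 2) hy (add_mem ((O.space k 2).smul_mem _ hx.1)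
    ((O.space k 2).smul_mem _ (O.space_mono (k := k) (Nat.zero_le 2) O.one_exact.1)))
  let b₂ := a₂ + a₁ ^ 2 / 4
  let b₄ := a₄ + a₁ * a₃ / 2
  let b₆ := a₆ + a₃ ^ 2 / 4
  obtain ⟨e₁, he₁⟩ := IsAlgClosed.exists_root (Polynomial.X ^ 3 + (Polynomial.C b₂ * Polynomial.X ^ 2 +
    Polynomial.C b₄ * Polynomial.X + Polynomial.C b₆)) (by
      have h3 : (Polynomial.X ^ 3 + (Polynomial.C b₂ * Polynomial.X ^ 2 +
          Polynomial.C b₄ * Polynomial.X + Polynomial.C b₆)).natDegree = 3 := by compute_degree!
      intro hd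
      rw [Polynomial.natDegree_eq_zero_iff_degree_le_zero.2 hd.le] at h3
      omega)
  simp only [Polynomial.IsRoot, Polynomial.eval_add, Polynomial.eval_pow, Polynomial.eval_mul,
    Polynomial.eval_X, Polynomial.eval_C] at he₁
  let p := e₁ + b₂
  let q := e₁ * p + b₄
  obtain ⟨e₂, he₂⟩ := IsAlgClosed.exists_root (Polynomial.X ^ 2 + (Polynomial.C p * Polynomial.X +
    Polynomial.C q)) (by
      have h2 : (Polynomial.X ^ 2 + (Polynomial.C p * Polynomial.X + Polynomial.C q)).natDegree = 2 := by
        compute_degree!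
      intro hd
      rw [Polynomial.natDegree_eq_zero_iff_degree_le_zero.2 hd.le] at h2
      omega)
  simp only [Polynomial.IsRoot, Polynomial.eval_add, Polynomial.eval_pow, Polynomial.eval_mul,
    Polynomial.eval_X, Polynomial.eval_C] at he₂
  let e₃ := -p - e₂
  have hA2 : (algebraMap k X.functionField) 2 ≠ 0 := (map_ne_zero (algebraMap k X.functionField)).2 h2
  have h4 : (4 : k) ≠ 0 := by
    rw [show (4 : k) = 2 * 2 by norm_num]; exact mul_ne_zero h2 h2
  have c2 : b₂ = -(e₁ + e₂ + e₃) := by simp only [e₃, p]; ring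
  have c4 : b₄ = e₁ * e₂ + e₁ * e₃ + e₂ * e₃ := by
    simp only [e₃, p, q] at he₂ ⊢; linear_combination he₂
  have c6 : b₆ = -(e₁ * e₂ * e₃) := by
    simp only [e₃, p, q] at he₂ ⊢; linear_combination he₁ - e₁ * he₂
  have hw2 : w ^ 2 = (x - e₁ • 1) * (x - e₂ • 1) * (x - e₃ • 1) := by
    simp only [w, Algebra.smul_def, mul_one]
    have d2 : (algebraMap k X.functionField) a₁ = (algebraMap k X.functionField) 2 * (algebraMap k X.functionField) (a₁ / 2) := by rw [← map_mul, mul_div_cancel₀ _ h2]
    have d3 : (algebraMap k X.functionField) a₃ = (algebraMap k X.functionField) 2 * (algebraMap k X.functionField) (a₃ / 2) := by rw [← map_mul, mul_div_cancel₀ _ h2]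
    have d4 : (algebraMap k X.functionField) (a₁ / 2) ^ 2 + (algebraMap k X.functionField) a₂ = -((algebraMap k X.functionField) e₁ + (algebraMap k X.functionField) e₂ + (algebraMap k X.functionField) e₃) := by
      simp only [← map_pow, ← map_add, ← map_neg]
      exact congrArg (algebraMap k X.functionField) (by rw [← c2]; simp only [b₂]; field_simp; ring)
    have d5 : 2 * (algebraMap k X.functionField) (a₁ / 2) * (algebraMap k X.functionField) (a₃ / 2) + (algebraMap k X.functionField) a₄ = (algebraMap k X.functionField) e₁ * (algebraMap k X.functionField) e₂ + (algebraMap k X.functionField) e₁ * (algebraMap k X.functionField) e₃ + (algebraMap k X.functionField) e₂ * (algebraMap k X.functionField) e₃ := by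
      rw [show (2 : X.functionField) = (algebraMap k X.functionField) 2 from (map_ofNat (algebraMap k X.functionField) 2).symm]
      simp only [← map_mul, ← map_add]
      exact congrArg (algebraMap k X.functionField) (by rw [← c4]; simp only [b₄]; field_simp; ring)
    have d6 : (algebraMap k X.functionField) (a₃ / 2) ^ 2 + (algebraMap k X.functionField) a₆ = -((algebraMap k X.functionField) e₁ * (algebraMap k X.functionField) e₂ * (algebraMap k X.functionField) e₃) := by
      simp only [← map_pow, ← map_mul, ← map_add, ← map_neg]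
      exact congrArg (algebraMap k X.functionField) (by rw [← c6]; simp only [b₆]; field_simp; ring)
    rw [show (algebraMap k X.functionField) 2 = (2 : X.functionField) from map_ofNat (algebraMap k X.functionField) 2] at d2 d3
    linear_combination heq + (-x * y) * d2 + (-y) * d3 + x ^ 2 * d4 + x * d5 + d6
  have h12 : e₁ ≠ e₂ := fun h => O.no_double_root (k := k) hdim.le h0 hg hJ hN hx (e := e₂) (e' := e₃)
    (y := w) (by rw [hw2, h]; ring)
  have h13 : e₁ ≠ e₃ := fun h => O.no_double_root (k := k) hdim.le h0 hg hJ hN hx (e := e₃) (e' := e₂)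
    (y := w) (by rw [hw2, h]; ring)
  have h23 : e₂ ≠ e₃ := fun h => O.no_double_root (k := k) hdim.le h0 hg hJ hN hx (e := e₃) (e' := e₁)
    (y := w) (by rw [hw2, h]; ring)
  let d := e₂ - e₁
  have hd : d ≠ 0 := sub_ne_zero.2 h12.symm
  obtain ⟨r, hr⟩ := IsAlgClosed.exists_pow_nat_eq (d ^ 3) two_pos
  have hr0 : r ≠ 0 := fun h => pow_ne_zero 3 hd (by rw [← hr, h]; ring)
  let l := (e₃ - e₁) / d
  refine ⟨l, ?_⟩
  have hx' : O.Exact k 2 (d⁻¹ • (x + (-e₁) • (1 : X.functionField))) :=
    (OnePole.Exact.add_low O (n := 1) hx ((O.space k 1).smul_mem _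
      (O.space_mono (k := k) zero_le_one O.one_exact.1))).smul O (inv_ne_zero hd)
  have hy' : O.Exact k 3 (r⁻¹ • w) := hw.smul O (inv_ne_zero hr0)
  obtain ⟨f, hf, hci, hker⟩ := O.exists_cubic_of (k := k) hdim h0 hg hJ hP hx' hy'
    (a₁ := 0) (a₂ := -(1 + l)) (a₃ := 0) (a₄ := l) (a₆ := 0) (by
    simp only [Algebra.smul_def, mul_one, map_neg, map_zero, zero_mul, add_zero]
    simp only [Algebra.smul_def, mul_one] at hw2
    have hAd : (algebraMap k X.functionField) d ≠ 0 := (map_ne_zero (algebraMap k X.functionField)).2 hd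
    have hAr : (algebraMap k X.functionField) r ≠ 0 := (map_ne_zero (algebraMap k X.functionField)).2 hr0
    have hr' : (algebraMap k X.functionField) r ^ 2 = (algebraMap k X.functionField) d ^ 3 := by rw [← map_pow, ← map_pow, hr]
    have hd' : (algebraMap k X.functionField) e₂ = (algebraMap k X.functionField) d + (algebraMap k X.functionField) e₁ := by rw [← map_add]; simp [d]
    have hl' : (algebraMap k X.functionField) e₃ = (algebraMap k X.functionField) l * (algebraMap k X.functionField) d + (algebraMap k X.functionField) e₁ := by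
      rw [← map_mul, ← map_add]; exact congrArg (algebraMap k X.functionField) (by simp only [l]; field_simp; ring)
    rw [map_add, map_one, map_inv₀, map_inv₀, mul_pow, hw2, inv_pow, hr', hd', hl']
    field_simp
    ring)
  refine ⟨f, fun h => h13 ?_, fun h => h23 ?_, hf, hci, hker⟩
  · have : (e₃ - e₁) / d = 0 := h
    rw [div_eq_zero_iff, sub_eq_zero] at this
    exact (this.resolve_right hd).symm
  · have : (e₃ - e₁) / d = 1 := h
    rw [div_eq_one_iff_eq hd] at this
    exact (sub_left_inj.1 this).symm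

end Groth.Agent.W7OnePole
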