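import Groth.Agent.W7OnePole.Zeros
import Groth.Agent.W7OnePole.FixedPoint
import Groth.Agent.RPushQC.Trunc
import Mathlib.RingTheory.Localization.AtPrime.Basic

/-!
# An involution with many fixed points has a hyperelliptic fixed point
-/

set_option autoImplicit false
set_option linter.style.haveILetI false
set_option backward.isDefEq.respectTransparency false

universe u

open CategoryTheory CategoryTheory.Limits AlgebraicGeometry TopologicalSpace Opposite
open Groth.Agent Groth.Agent.CurveRR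
open Groth.Agent.QC (res resO resO_resO)
open Groth.Agent.W7Pencil (gm gm_injective gm_cst gm_resO ffMap ffMap_gm ext_of_ffMap)

noncomputable section

namespace Groth.Agent.W7OnePole

attribute [local instance] secMod Curv2.stalkAlgebra Curv2.resAlgebra

variable {X : Scheme.{u}} [IsIntegral X] {J : X.Modules} {P : X} (O : OnePole J P)

/-- The local parameter in the local ring. -/
def OnePole.param : X.presheaf.stalk P := X.presheaf.germ O.U1 P O.memP O.t1

theorem OnePole.toFun_param : toFun P O.param = O.S := toFun_germ _ _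

theorem OnePole.dvd_of_residue {r : X.presheaf.stalk P} (h : (X.residue P).hom r = 0) : O.param ∣ r := by
  letI := X.presheaf.algebra_section_stalk (⟨P, O.memP⟩ : O.U1)
  haveI := O.aff1.isLocalization_stalk ⟨P, O.memP⟩
  obtain ⟨⟨b, s⟩, hbs⟩ := IsLocalization.surj (O.aff1.primeIdealOf ⟨P, O.memP⟩).asIdeal.primeCompl r
  have hbs' : r * X.presheaf.germ O.U1 P O.memP s.1 = X.presheaf.germ O.U1 P O.memP b := hbs
  have hb : (X.evaluation O.U1 P O.memP).hom b = 0 := by
    show (X.residue P).hom (X.presheaf.germ O.U1 P O.memP b) = 0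
    rw [← hbs', map_mul, h, zero_mul]
  obtain ⟨c, rfl⟩ := O.dvd_of_eval b hb
  have hu : IsUnit (X.presheaf.germ O.U1 P O.memP s.1) :=
    IsLocalization.map_units (X.presheaf.stalk P) s
  rw [map_mul] at hbs'
  exact ⟨X.presheaf.germ O.U1 P O.memP c * ↑hu.unit⁻¹, by
    show r = X.presheaf.germ O.U1 P O.memP O.t1 * _
    rw [← mul_assoc, ← hbs', mul_assoc, IsUnit.mul_val_inv, mul_one]⟩

variable {k : Type u} [Field k] [X.Over (Spec (CommRingCat.of k))]

theorem OnePole.mem_space_iff {n : ℕ} {z : X.functionField} :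
    z ∈ O.space k n ↔ (∃ a, gm O.mem0 a = z) ∧ ∃ r, toFun P r = z * O.S ^ n := by
  constructor
  · rintro ⟨a, b, ha, hb⟩
    exact ⟨⟨a, ha⟩, X.presheaf.germ O.U1 P O.memP b, (toFun_germ _ _).trans hb⟩
  · rintro ⟨⟨a, ha⟩, r, hr⟩
    obtain ⟨V, hPV, b, rfl⟩ := X.presheaf.exists_germ_eq r
    rw [toFun_germ] at hr
    have hcov : O.U1 ≤ (O.U0 ⊓ O.U1) ⊔ (V ⊓ O.U1) := fun x hx => by
      by_cases hxP : x = P
      · exact Or.inr ⟨hxP ▸ hPV, hx⟩
      · exact Or.inl ⟨(O.off x).2 hxP, hx⟩
    have hη : genericPoint X ∈ V := (genericPoint_specializes P).mem_open V.2 hPV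
    obtain ⟨c, hc, -⟩ := RPushQC.glue (Coh.structureModule X) (inf_le_right : O.U0 ⊓ O.U1 ≤ O.U1)
      (inf_le_right : V ⊓ O.U1 ≤ O.U1)
      (inf_le_left : (O.U0 ⊓ O.U1) ⊓ (V ⊓ O.U1) ≤ O.U0 ⊓ O.U1) inf_le_right hcov le_rfl
      (resO X inf_le_left a * resO X inf_le_right O.t1 ^ n : Γ(X, O.U0 ⊓ O.U1)) (resO X inf_le_left b : Γ(X, V ⊓ O.U1))
      (by
        refine gm_injective (U := (O.U0 ⊓ O.U1) ⊓ (V ⊓ O.U1)) ⟨⟨O.mem0, O.mem1⟩, hη, O.mem1⟩ ?_
        show gm _ (resO X _ (resO X _ a * resO X _ O.t1 ^ n)) = gm _ (resO X _ (resO X _ b))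
        rw [gm_resO, gm_resO, gm_resO, map_mul, map_pow, gm_resO, gm_resO, ha, hr]
        rfl)
    refine ⟨a, c, ha, ?_⟩
    have := congrArg (gm (U := O.U0 ⊓ O.U1) ⟨O.mem0, O.mem1⟩) hc
    change gm _ (resO X _ c) = _ at this
    rw [gm_resO, map_mul, map_pow, gm_resO, gm_resO, ha] at this
    exact this

variable (k) in
/-- Exact pole order. -/
theorem OnePole.residue_ne_zero_of_notMem {n : ℕ} {z : X.functionField} (hn : z ∉ O.space k n)
    (ha : ∃ a, gm O.mem0 a = z) {r : X.presheaf.stalk P} (hr : toFun P r = z * O.S ^ (n + 1)) :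
    (X.residue P).hom r ≠ 0 := by
  intro h
  obtain ⟨c, rfl⟩ := O.dvd_of_residue h
  refine hn (O.mem_space_iff.2 ⟨ha, c, mul_left_cancel₀ O.S_ne_zero ?_⟩)
  rw [map_mul, O.toFun_param] at hr
  rw [hr]; ring

variable [IsProper (X ↘ Spec (CommRingCat.of k))]

/-- A fixed point of an involution with many fixed points has two functions of pole order at most two. -/
theorem OnePole.finrank_space_two_of_involution (hdim : topologicalKrullDim X ≤ 1)
    (h0 : h k (Coh.structureModule X) 0 = 1) {g : ℕ} (hg : Curv2.genus k X = g) (hg1 : 1 ≤ g)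
    (h2 : (2 : k) ≠ 0) (hJ : Curv2.deg k X J 1 = 1) (hP : Module.finrank k (X.residueField P) = 1)
    (σ : X ⟶ X) (hσ : σ ≫ (X ↘ Spec (CommRingCat.of k)) = X ↘ Spec (CommRingCat.of k))
    (hσσ : σ ≫ σ = 𝟙 X) (hσ1 : σ ≠ 𝟙 X) (hσP : σ P = P)
    (S : Finset X) (hS : ∀ Q ∈ S, IsClosed ({Q} : Set X)) (hSP : ∀ Q ∈ S, Q ≠ P)
    (hrat : ∀ Q ∈ S, Module.finrank k (X.residueField Q) = 1) (hSσ : ∀ Q ∈ S, σ Q = Q)
    (hcard : 2 * g < S.card + 1) :
    2 ≤ Module.finrank k (O.space k 2) := by
  classical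
  have eσ := map_genericPoint_of_involution σ hσσ
  let τ := ffMap σ eσ
  have hττ : ∀ z, τ (τ z) = z := ffMap_ffMap σ hσσ eσ
  have hτc : ∀ c : k, τ (algebraMap k X.functionField c) = algebraMap k X.functionField c :=
    ffMap_algebraMap σ hσ eσ
  have hpre : O.U0 ≤ σ ⁻¹ᵁ O.U0 := fun x hx => by
    show σ x ∈ O.U0
    refine (O.off _).2 fun he => (O.off x).1 hx ?_
    have := congrArg σ he
    rw [← Scheme.Hom.comp_apply, hσσ, hσP] at this
    exact this
  have hτ0 : ∀ a, τ (gm O.mem0 a) = gm O.mem0 (resO X hpre ((σ.app O.U0).hom a)) := fun a => by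
    rw [gm_resO]; exact ffMap_gm σ eσ _ _ a
  have hparam : (X.residue P).hom O.param = 0 := O.tP
  obtain ⟨u, hu⟩ := O.dvd_of_residue (residue_stalkEnd_eq_zero σ hσP hparam)
  let ρ := (X.residue P).hom
  have hρ : ∀ r, ρ (stalkEnd σ hσP r) = ρ r := residue_stalkEnd σ hσ hσP hP
  have hτS : τ O.S = toFun P u * O.S := by
    rw [← O.toFun_param, mul_comm, ← map_mul, ← hu]
    exact ffMap_toFun σ hσP eσ _
  have hu2 : ρ u = 1 ∨ ρ u = -1 := by
    have e1 : toFun P (stalkEnd σ hσP u * u) = 1 := by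
      refine mul_right_cancel₀ O.S_ne_zero ?_
      rw [one_mul, map_mul, ← ffMap_toFun σ hσP eσ, mul_assoc, ← hτS]
      show τ (toFun P u) * τ O.S = O.S
      rw [← map_mul, ← hτS]
      exact hττ _
    have e2 := congrArg ρ (toFun_injective P (e1.trans (map_one _).symm))
    rw [map_mul, hρ, map_one] at e2
    exact mul_self_eq_one_iff.1 e2
  -- eigenfunctions of exact order
  have eig : ∀ {n : ℕ} {z : X.functionField} {ε : k}, z ∈ O.space k (n + 1) → z ∉ O.space k n →
      τ z = algebraMap k X.functionField ε * z → algebraMap k (X.residueField P) ε * ρ u ^ (n + 1) = 1 := by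
    intro n z ε hz hz' hτz
    obtain ⟨ha, r, hr⟩ := O.mem_space_iff.1 hz
    have hne := O.residue_ne_zero_of_notMem k hz' ha hr
    have e : stalkEnd σ hσP r = algebraMap k (X.presheaf.stalk P) ε * u ^ (n + 1) * r := by
      refine toFun_injective P ?_
      rw [← ffMap_toFun σ hσP eσ, map_mul (toFun P) (_ * _) r, map_mul (toFun P), map_pow, hr,
        show toFun P (algebraMap k (X.presheaf.stalk P) ε) = algebraMap k X.functionField ε from toFun_germ _ _]
      show τ (z * O.S ^ (n + 1)) = _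
      rw [map_mul, map_pow, hτz, hτS, mul_pow]
      ring
    have e' := congrArg ρ e
    rw [hρ, map_mul, map_mul, map_pow] at e'
    exact (mul_right_cancel₀ hne (e'.symm.trans (one_mul (ρ r)).symm))
  have h2' : (2 : X.residueField P) ≠ 0 := by
    rw [← map_ofNat (algebraMap k (X.residueField P)) 2]; exact (map_ne_zero _).2 h2
  have hτmem : ∀ {n : ℕ} {z}, z ∈ O.space k n → τ z ∈ O.space k n := by
    intro n z hz
    obtain ⟨⟨a, ha⟩, r, hr⟩ := O.mem_space_iff.1 hz
    refine O.mem_space_iff.2 ⟨⟨_, (hτ0 a).symm.trans (congrArg τ ha)⟩, stalkEnd σ hσP r * stalkEnd σ hσP u ^ n, ?_⟩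
    rw [map_mul, map_pow, ← ffMap_toFun σ hσP eσ, ← ffMap_toFun σ hσP eσ, hr]
    show τ (z * O.S ^ n) * τ (toFun P u) ^ n = τ z * O.S ^ n
    rw [map_mul, map_pow, mul_assoc, ← mul_pow, ← map_mul, mul_comm O.S, ← hτS, hττ]
  have hρu : ρ u = -1 := by
    refine hu2.resolve_left fun hu1 => hσ1 ?_
    have hfix : ∀ a, τ (gm O.mem0 a) = gm O.mem0 a := by
      intro a
      by_contra hne
      obtain ⟨m, hm⟩ := O.exists_mem_space (k := k) a
      let d := gm O.mem0 a - τ (gm O.mem0 a)
      have hd : ∃ n, d ∈ O.space k n := ⟨m, sub_mem hm (hτmem hm)⟩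
      have hτd : τ d = algebraMap k X.functionField (-1) * d := by
        simp only [d, map_sub, hττ, map_neg, map_one]; ring
      obtain hn | hn := Nat.eq_zero_or_pos (Nat.find hd)
      · have hd0 : d ∈ O.space k 0 := hn ▸ Nat.find_spec hd
        have hfin : Module.finrank k (O.space k 0) = 1 := by rw [O.finrank_space]; exact h0
        have h10 : (1 : X.functionField) ∈ O.space k 0 :=
          ⟨1, 1, map_one _, by rw [map_one, pow_zero, mul_one]⟩
        obtain ⟨c, hc⟩ := (finrank_eq_one_iff_of_nonzero' (⟨1, h10⟩ : O.space k 0)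
          (fun e => one_ne_zero (congrArg Subtype.val e))).1 hfin ⟨d, hd0⟩
        have hc' : d = algebraMap k X.functionField c := by
          rw [← mul_one (algebraMap k X.functionField c), ← Algebra.smul_def]
          exact (congrArg Subtype.val hc).symm
        rw [hc', hτc, map_neg, map_one, neg_one_mul, ← add_eq_zero_iff_eq_neg, ← two_mul] at hτd
        have : (2 : X.functionField) ≠ 0 := by
          rw [← map_ofNat (algebraMap k X.functionField) 2]; exact (map_ne_zero _).2 h2
        refine hne (sub_eq_zero.1 ?_).symm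
        show d = 0
        rw [hc']
        exact (mul_eq_zero.1 hτd).resolve_left this
      · obtain ⟨j, hj⟩ := Nat.exists_eq_add_of_le hn
        rw [add_comm] at hj
        have := eig (hj ▸ Nat.find_spec hd) (Nat.find_min hd (by omega)) hτd
        rw [hu1, one_pow, mul_one, map_neg, map_one, neg_eq_iff_add_eq_zero, one_add_one_eq_two] at this
        exact h2' this
    have hid : ∀ z, τ z = z := fun z => by
      haveI : Nonempty O.U0 := ⟨⟨_, O.mem0⟩⟩
      haveI := functionField_isFractionRing_of_isAffineOpen X O.U0 O.aff0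
      obtain ⟨a, b, -, rfl⟩ := IsFractionRing.div_surjective Γ(X, O.U0) z
      show τ (gm O.mem0 a / gm O.mem0 b) = _
      rw [map_div₀, hfix, hfix]
      rfl
    refine ext_of_ffMap (X ↘ Spec (CommRingCat.of k)) σ (𝟙 X) hσ (Category.id_comp _) eσ rfl
      (RingHom.ext fun z => (hid z).trans ?_)
    simp [ffMap]
  -- no odd jumps
  have hodd : ∀ j, 2 * j + 1 ≤ 2 * g → O.space k (2 * j + 1) = O.space k (2 * j) := by
    intro j hj
    refine le_antisymm (fun z hz => ?_) (O.space_mono (k := k) (Nat.le_succ _))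
    by_contra hz'
    have hhalf : (algebraMap k X.functionField) 2⁻¹ * 2 = 1 := by
      rw [← map_ofNat (algebraMap k X.functionField) 2, ← map_mul, inv_mul_cancel₀ h2, map_one]
    let d := (2⁻¹ : k) • (z - τ z)
    let e := (2⁻¹ : k) • (z + τ z)
    have hde : z = d + e := by
      simp only [d, e, Algebra.smul_def]
      linear_combination (-z) * hhalf
    have hτe : τ e = algebraMap k X.functionField 1 * e := by
      simp only [e, Algebra.smul_def, map_mul, map_add, hτc, hττ, map_one]; ring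
    have hτd : τ d = algebraMap k X.functionField (-1) * d := by
      simp only [d, Algebra.smul_def, map_mul, map_sub, hτc, hττ, map_neg, map_one]; ring
    have he : e ∈ O.space k (2 * j) := by
      by_contra he
      have := eig ((O.space k _).smul_mem _ (add_mem hz (hτmem hz))) he hτe
      rw [hρu, (Odd.neg_one_pow ⟨j, rfl⟩), map_one, one_mul, neg_eq_iff_add_eq_zero, one_add_one_eq_two] at this
      exact h2' this
    have hd : d ∈ O.space k (2 * j + 1) := (O.space k _).smul_mem _ (sub_mem hz (hτmem hz))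
    have hd' : d ∉ O.space k (2 * j) := fun h => hz' (hde ▸ add_mem h he)
    obtain ⟨a, -, ha, -⟩ := id hd
    have ha0 : a ≠ 0 := fun h => hd' (by rw [← ha, h, map_zero]; exact zero_mem _)
    have hcardle := O.card_zeros_le (k := k) hdim h0 hg hJ S hS hSP hrat (n := 2 * j + 1) (ha ▸ hd) ha0 fun Q hQ => by
      have hQ0 := O.mem_U0_of_ne (hSP Q hQ)
      have hQ' : Q ∈ σ ⁻¹ᵁ O.U0 := hpre hQ0
      have e1 : toFun Q (stalkEnd σ (hSσ Q hQ) (X.presheaf.germ O.U0 Q hQ0 a)) =
          toFun Q (-(X.presheaf.germ O.U0 Q hQ0 a)) := by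
        rw [← ffMap_toFun σ (hSσ Q hQ) eσ, map_neg, toFun_germ]
        show τ (gm O.mem0 a) = -gm O.mem0 a
        rw [ha, hτd, map_neg, map_one, neg_one_mul]
      have e2 := congrArg (X.residue Q).hom (toFun_injective Q e1)
      rw [residue_stalkEnd σ hσ (hSσ Q hQ) (hrat Q hQ), map_neg] at e2
      have h2Q : (2 : X.residueField Q) ≠ 0 := by
        rw [← map_ofNat (algebraMap k (X.residueField Q)) 2]; exact (map_ne_zero _).2 h2
      refine (mul_eq_zero.1 (?_ : (2 : X.residueField Q) * (X.evaluation O.U0 Q hQ0).hom a = 0)).resolve_left h2Q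
      rw [two_mul]
      exact eq_neg_iff_add_eq_zero.1 e2
    omega
  have hstep : ∀ j, j + 1 ≤ g → Module.finrank k (O.space k (2 * (j + 1))) ≤ Module.finrank k (O.space k (2 * j)) + 1 := by
    intro j hj
    rw [← hodd j (by omega)]
    exact O.finrank_space_succ_le hP (2 * j + 1)
  have hup : ∀ j, j + 1 ≤ g → Module.finrank k (O.space k (2 * (j + 1))) ≤ Module.finrank k (O.space k 2) + j := by
    intro j
    induction j with
    | zero => intro _; exact le_rfl
    | succ j ih => intro hj; exact (hstep (j + 1) hj).trans (by have := ih (by omega); omega)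
  have hbig := O.finrank_space_large (k := k) hdim h0 hg hJ (n := 2 * g) (by omega)
  obtain ⟨j, rfl⟩ : ∃ j, g = j + 1 := ⟨g - 1, by omega⟩
  have := hup j le_rfl
  omega

end Groth.Agent.W7OnePole
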