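import Groth.Agent.W7Pencil.Sections
import Groth.Agent.W7Cover.AffineLine
import Groth.Agent.CohFinite.Linear
import Groth.Agent.NormSect.Basic
import Mathlib.RingTheory.Algebraic.Integral

/-!
# Rational functions with one pole
-/

set_option autoImplicit false
set_option linter.style.haveILetI false
set_option backward.isDefEq.respectTransparency false

universe u

open CategoryTheory CategoryTheory.Limits AlgebraicGeometry TopologicalSpace Opposite
open Groth.Agent Groth.Agent.CurveRR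
open Groth.Agent.QC (res resO res_res res_smul resO_resO res_self)
open TMul (IsGen pw coeffEquiv)
open Groth.Agent.W7Pencil (gm gm_injective gm_resO gm_cst)

noncomputable section

namespace Groth.Agent.W7OnePole

attribute [local instance] secMod Curv2.stalkAlgebra Curv2.resAlgebra

variable {X : Scheme.{u}} [IsIntegral X]

/-- An invertible module with a section vanishing exactly, and simply, at one point. -/
structure OnePole (J : X.Modules) (P : X) where
  inv : PicF.IsInvertible J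
  s : Γ(J, ⊤)
  U0 : X.Opens
  U1 : X.Opens
  e1 : Γ(J, U1)
  gen0 : IsGen (res J (le_top : U0 ≤ ⊤) s)
  gen1 : IsGen e1
  cover : ⊤ ≤ U0 ⊔ U1
  t1 : Γ(X, U1)
  rel1 : res J (le_top : U1 ≤ ⊤) s = t1 • e1
  loc0 : U0 = CohB1.genLocus J (TMul.homOf s)
  off : ∀ x, x ∈ U0 ↔ x ≠ P
  aff0 : IsAffineOpen U0
  aff1 : IsAffineOpen U1
  mem0 : genericPoint X ∈ U0
  mem1 : genericPoint X ∈ U1
  memP : P ∈ U1
  tP : (X.evaluation U1 P memP).hom t1 = 0
  dvd_of_eval : ∀ b : Γ(X, U1), (X.evaluation U1 P memP).hom b = 0 → t1 ∣ b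

variable {J : X.Modules} {P : X} (O : OnePole J P)

/-- The local parameter in the function field. -/
def OnePole.S : X.functionField := gm O.mem1 O.t1

theorem OnePole.S_ne_zero : O.S ≠ 0 := by
  intro h
  have ht : O.t1 = 0 := gm_injective O.mem1 (h.trans (map_zero _).symm)
  have hη : genericPoint X ∈ CohB1.genLocus J (TMul.homOf O.s) := O.loc0 ▸ O.mem0
  have hval : TMul.val (TMul.homOf O.s) O.U1 = O.t1 • O.e1 := by rw [TMul.val_homOf]; exact O.rel1
  have hb : genericPoint X ∈ X.basicOpen O.t1 := by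
    rw [← TMul.genLocus_inf (TMul.homOf O.s) O.gen1 hval]; exact ⟨O.mem1, hη⟩
  rw [ht, X.basicOpen_zero] at hb
  exact hb

theorem OnePole.isGen_pw0 (n : ℕ) {W : X.Opens} (h : W ≤ O.U0) :
    IsGen (pw (res J (le_top : W ≤ ⊤) O.s) n) := by
  have := O.gen0.res h
  rw [res_res] at this
  exact TMul.isGen_pw this n

theorem OnePole.pw_rel (n : ℕ) {W : X.Opens} (h : W ≤ O.U1) :
    pw (res J (le_top : W ≤ ⊤) O.s) n = resO X h O.t1 ^ n • pw (res J h O.e1) n := by
  rw [← TMul.pw_smul, ← res_smul, ← O.rel1, res_res]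

/-- The coefficient off the point. -/
def OnePole.coef0 (n : ℕ) (σ : Γ(CohB1.tensorPow J n, ⊤)) : Γ(X, O.U0) :=
  (coeffEquiv (TMul.isGen_pw O.gen0 n) le_rfl).symm (res (CohB1.tensorPow J n) le_top σ)

theorem OnePole.coef0_spec (n : ℕ) (σ : Γ(CohB1.tensorPow J n, ⊤)) :
    O.coef0 n σ • pw (res J (le_top : O.U0 ≤ ⊤) O.s) n = res (CohB1.tensorPow J n) le_top σ := by
  have h := (coeffEquiv (TMul.isGen_pw O.gen0 n) le_rfl).apply_symm_apply
    (res (CohB1.tensorPow J n) (le_top : O.U0 ≤ ⊤) σ)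
  change O.coef0 n σ • res (CohB1.tensorPow J n) (le_rfl : O.U0 ≤ O.U0)
    (pw (res J (le_top : O.U0 ≤ ⊤) O.s) n) = _ at h
  rwa [res_self] at h

theorem OnePole.coef0_unique (n : ℕ) (σ : Γ(CohB1.tensorPow J n, ⊤)) (a : Γ(X, O.U0))
    (h : a • pw (res J (le_top : O.U0 ≤ ⊤) O.s) n = res (CohB1.tensorPow J n) le_top σ) :
    O.coef0 n σ = a := by
  refine (TMul.isGen_pw O.gen0 n O.U0 le_rfl).1 ?_
  simp only [res_self]
  rw [O.coef0_spec, h]

variable {k : Type u} [Field k] [X.Over (Spec (CommRingCat.of k))]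

variable (k) in
/-- The rational functions whose only pole is at the point, of order at most `n`. -/
def OnePole.space (n : ℕ) : Submodule k X.functionField where
  carrier := {z | ∃ (a : Γ(X, O.U0)) (b : Γ(X, O.U1)), gm O.mem0 a = z ∧ gm O.mem1 b = z * O.S ^ n}
  add_mem' := by
    rintro _ _ ⟨a, b, rfl, hb⟩ ⟨a', b', rfl, hb'⟩
    exact ⟨a + a', b + b', map_add _ _ _, by rw [map_add, add_mul, hb, hb']⟩
  zero_mem' := ⟨0, 0, map_zero _, by rw [map_zero, zero_mul]⟩
  smul_mem' := by
    rintro c _ ⟨a, b, rfl, hb⟩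
    exact ⟨cst k X O.U0 c * a, cst k X O.U1 c * b, by rw [map_mul, gm_cst, Algebra.smul_def],
      by rw [map_mul, gm_cst, hb, Algebra.smul_def, mul_assoc]⟩

variable (k) in
/-- A section read as a rational function. -/
def OnePole.toFF (n : ℕ) : Γ(CohB1.tensorPow J n, ⊤) →ₗ[k] X.functionField where
  toFun σ := gm O.mem0 (O.coef0 n σ)
  map_add' σ σ' := by
    rw [← map_add]
    refine congrArg _ (O.coef0_unique n _ _ ?_)
    rw [add_smul, O.coef0_spec, O.coef0_spec, map_add]
  map_smul' c σ := by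
    rw [RingHom.id_apply, Algebra.smul_def, ← gm_cst O.mem0 c, ← map_mul]
    refine congrArg _ (O.coef0_unique n _ _ ?_)
    rw [mul_smul, O.coef0_spec]
    show _ = res (CohB1.tensorPow J n) le_top (cst k X ⊤ c • σ)
    rw [res_smul]
    exact congrArg (fun r : Γ(X, O.U0) => r • res (CohB1.tensorPow J n) le_top σ) (resO_resO _ _ _).symm

theorem OnePole.coef1_spec (n : ℕ) (σ : Γ(CohB1.tensorPow J n, ⊤)) (b : Γ(X, O.U1))
    (hb : b • pw O.e1 n = res (CohB1.tensorPow J n) le_top σ) :
    gm O.mem1 b = gm O.mem0 (O.coef0 n σ) * O.S ^ n := by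
  let W := O.U0 ⊓ O.U1
  have h1 := congrArg (res (CohB1.tensorPow J n) (inf_le_right : W ≤ O.U1)) hb
  rw [res_smul, TMul.res_pw, res_res] at h1
  have h2 := congrArg (res (CohB1.tensorPow J n) (inf_le_left : W ≤ O.U0)) (O.coef0_spec n σ)
  rw [res_smul, TMul.res_pw, res_res, res_res, O.pw_rel n (inf_le_right : W ≤ O.U1), smul_smul] at h2
  have h3 : resO X (inf_le_right : W ≤ O.U1) b =
      resO X (inf_le_left : W ≤ O.U0) (O.coef0 n σ) * resO X inf_le_right O.t1 ^ n := by
    refine (TMul.isGen_pw (O.gen1.res (inf_le_right : W ≤ O.U1)) n W le_rfl).1 ?_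
    rw [TMul.res_pw, res_res]
    exact h1.trans h2.symm
  have h4 := congrArg (gm (U := W) ⟨O.mem0, O.mem1⟩) h3
  rw [map_mul, map_pow, gm_resO, gm_resO, gm_resO] at h4
  exact h4

theorem OnePole.toFF_injective (n : ℕ) : Function.Injective (O.toFF k n) := by
  intro σ σ' h
  have hb := fun τ : Γ(CohB1.tensorPow J n, ⊤) =>
    (TMul.isGen_pw O.gen1 n O.U1 le_rfl).2 (res (CohB1.tensorPow J n) le_top τ)
  obtain ⟨b, hb0⟩ := hb σ
  obtain ⟨b', hb1⟩ := hb σ'
  simp only [res_self] at hb0 hb1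
  have hbb : b = b' := gm_injective O.mem1 (by
    rw [O.coef1_spec n σ b hb0, O.coef1_spec n σ' b' hb1]
    exact congrArg (· * O.S ^ n) h)
  refine sub_eq_zero.1 (RPushQC.res_sep _ (le_top : O.U0 ≤ ⊤) le_top O.cover _ ?_ ?_)
  · rw [map_sub, ← O.coef0_spec, ← O.coef0_spec, gm_injective O.mem0 h, sub_self]
  · rw [map_sub, ← hb0, ← hb1, hbb, sub_self]

theorem OnePole.range_toFF (n : ℕ) : LinearMap.range (O.toFF k n) = O.space k n := by
  ext z
  constructor
  · rintro ⟨σ, rfl⟩
    obtain ⟨b, hb⟩ := (TMul.isGen_pw O.gen1 n O.U1 le_rfl).2 (res (CohB1.tensorPow J n) le_top σ)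
    simp only [res_self] at hb
    exact ⟨O.coef0 n σ, b, rfl, O.coef1_spec n σ b hb⟩
  · rintro ⟨a, b, rfl, hb⟩
    have he : resO X (inf_le_right : O.U0 ⊓ O.U1 ≤ O.U1) b =
        resO X (inf_le_left : O.U0 ⊓ O.U1 ≤ O.U0) a * resO X inf_le_right O.t1 ^ n := by
      refine gm_injective (U := O.U0 ⊓ O.U1) ⟨O.mem0, O.mem1⟩ ?_
      rw [map_mul, map_pow, gm_resO, gm_resO, gm_resO]
      exact hb
    obtain ⟨σ, hσ0, -⟩ := RPushQC.glue (CohB1.tensorPow J n) (le_top : O.U0 ≤ ⊤) (le_top : O.U1 ≤ ⊤)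
      (inf_le_left : O.U0 ⊓ O.U1 ≤ O.U0) inf_le_right O.cover le_rfl
      (a • pw (res J le_top O.s) n) (b • pw O.e1 n) (by
        rw [res_smul, res_smul, TMul.res_pw, TMul.res_pw, res_res, O.pw_rel n inf_le_right, smul_smul, he])
    exact ⟨σ, congrArg (gm O.mem0) (O.coef0_unique n σ a hσ0.symm)⟩

theorem OnePole.finrank_space (n : ℕ) :
    Module.finrank k (O.space k n) = h k (CohB1.tensorPow J n) 0 := by
  rw [← O.range_toFF (k := k) n, LinearMap.finrank_range_of_inj (O.toFF_injective n)]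
  exact finrank_sec _

theorem OnePole.space_mono {m n : ℕ} (h : m ≤ n) : O.space k m ≤ O.space k n := by
  rintro _ ⟨a, b, rfl, hb⟩
  refine ⟨a, b * O.t1 ^ (n - m), rfl, ?_⟩
  rw [map_mul, map_pow, hb, mul_assoc]
  exact congrArg (_ * ·) ((pow_add O.S m (n - m)).symm.trans (by rw [Nat.add_sub_cancel' h]))

theorem OnePole.space_mul {m n : ℕ} {z w : X.functionField} (hz : z ∈ O.space k m) (hw : w ∈ O.space k n) :
    z * w ∈ O.space k (m + n) := by
  obtain ⟨a, b, rfl, hb⟩ := hz
  obtain ⟨a', b', rfl, hb'⟩ := hw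
  exact ⟨a * a', b * b', map_mul _ _ _, by rw [map_mul, hb, hb', pow_add, mul_mul_mul_comm]⟩

theorem OnePole.space_pow {m : ℕ} {z : X.functionField} (hz : z ∈ O.space k m) (i : ℕ) :
    z ^ i ∈ O.space k (i * m) := by
  induction i with
  | zero => exact ⟨1, 1, by rw [map_one, pow_zero], by rw [map_one, pow_zero, zero_mul, pow_zero, mul_one]⟩
  | succ i ih => rw [pow_succ, add_one_mul]; exact O.space_mul ih hz

variable (k) in
/-- The leading coefficient at the point. -/
def OnePole.lead (n : ℕ) : O.space k n →ₗ[k] X.residueField P where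
  toFun z := (X.evaluation O.U1 P O.memP).hom (z.2.choose_spec.choose)
  map_add' z w := by
    rw [← map_add]
    refine congrArg _ (gm_injective O.mem1 ?_)
    rw [map_add, (z + w).2.choose_spec.choose_spec.2, z.2.choose_spec.choose_spec.2,
      w.2.choose_spec.choose_spec.2]
    exact add_mul _ _ _
  map_smul' c z := by
    have h : (c • z).2.choose_spec.choose = cst k X O.U1 c * z.2.choose_spec.choose := by
      refine gm_injective O.mem1 ?_
      rw [map_mul, gm_cst, (c • z).2.choose_spec.choose_spec.2, z.2.choose_spec.choose_spec.2, ← mul_assoc,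
        ← Algebra.smul_def]
      rfl
    rw [RingHom.id_apply, h, map_mul, Algebra.smul_def]
    refine congrArg (· * _) ?_
    exact congrArg (X.residue P).hom
      (TopCat.Presheaf.germ_res_apply X.presheaf (homOfLE (le_top : O.U1 ≤ ⊤)) P O.memP _)

theorem OnePole.lead_eq {n : ℕ} (z : O.space k n) (b : Γ(X, O.U1))
    (hb : gm O.mem1 b = (z : X.functionField) * O.S ^ n) :
    O.lead k n z = (X.evaluation O.U1 P O.memP).hom b :=
  congrArg (fun r => (X.evaluation O.U1 P O.memP).hom r)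
    (gm_injective O.mem1 (z.2.choose_spec.choose_spec.2.trans hb.symm))

theorem OnePole.lead_eq_zero_iff {n : ℕ} (z : O.space k (n + 1)) :
    O.lead k (n + 1) z = 0 ↔ (z : X.functionField) ∈ O.space k n := by
  obtain ⟨z, a, b, ha, hb⟩ := z
  rw [O.lead_eq _ b hb]
  constructor
  · intro h
    obtain ⟨c, rfl⟩ := O.dvd_of_eval b h
    refine ⟨a, c, ha, mul_left_cancel₀ O.S_ne_zero ?_⟩
    rw [map_mul] at hb
    exact hb.trans (by show z * O.S ^ (n + 1) = O.S * (z * O.S ^ n); ring)
  · rintro ⟨a', b', -, hb'⟩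
    rw [show b = O.t1 * b' from gm_injective O.mem1 (by
      rw [map_mul, hb, hb']; show z * O.S ^ (n + 1) = O.S * (z * O.S ^ n); ring), map_mul, O.tP, zero_mul]

theorem OnePole.lead_mul {m n : ℕ} (z : O.space k m) (w : O.space k n) :
    O.lead k (m + n) ⟨(z : X.functionField) * w, O.space_mul z.2 w.2⟩ = O.lead k m z * O.lead k n w := by
  rw [O.lead_eq z _ z.2.choose_spec.choose_spec.2, O.lead_eq w _ w.2.choose_spec.choose_spec.2, ← map_mul]
  refine O.lead_eq _ _ ?_
  rw [map_mul, z.2.choose_spec.choose_spec.2, w.2.choose_spec.choose_spec.2, pow_add, mul_mul_mul_comm]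

theorem OnePole.exists_mem_space (a : Γ(X, O.U0)) : ∃ n, gm O.mem0 a ∈ O.space k n := by
  have hval : TMul.val (TMul.homOf O.s) O.U1 = O.t1 • O.e1 := by rw [TMul.val_homOf]; exact O.rel1
  have hb : O.U1 ⊓ O.U0 = X.basicOpen O.t1 := by
    rw [O.loc0]; exact TMul.genLocus_inf (TMul.homOf O.s) O.gen1 hval
  have hle0 : X.basicOpen O.t1 ≤ O.U0 := by rw [← hb]; exact inf_le_right
  have hle1 : X.basicOpen O.t1 ≤ O.U1 := X.basicOpen_le _
  have hη : genericPoint X ∈ X.basicOpen O.t1 := by rw [← hb]; exact ⟨O.mem1, O.mem0⟩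
  letI := (X.presheaf.map (homOfLE hle1).op).hom.toAlgebra
  haveI : IsLocalization.Away O.t1 Γ(X, X.basicOpen O.t1) := O.aff1.isLocalization_basicOpen O.t1
  obtain ⟨n, b, hn⟩ := IsLocalization.Away.surj O.t1 (resO X hle0 a)
  refine ⟨n, a, b, rfl, ?_⟩
  have h := congrArg (gm hη) hn
  rw [map_mul, map_pow] at h
  change gm hη (resO X hle0 a) * gm hη (resO X hle1 O.t1) ^ n = gm hη (resO X hle1 b) at h
  rw [gm_resO, gm_resO, gm_resO] at h
  exact h.symm

variable [IsProper (X ↘ Spec (CommRingCat.of k))]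

include O in
theorem OnePole.finite_space (n : ℕ) : Module.Finite k (O.space k n) := by
  haveI := isNoetherian_of_proper k X
  haveI := CohFinite.finite_proper k X _ (isCoh_of_inv (TMul.isInvertible_tensorPow O.inv n)) 0
  haveI : Module.Finite k Γ(CohB1.tensorPow J n, ⊤) :=
    Module.Finite.equiv (secH0 (k := k) (CohB1.tensorPow J n)).symm
  rw [← O.range_toFF (k := k) n]
  infer_instance

/-- One more allowed pole adds at most one dimension at a rational point. -/
theorem OnePole.finrank_space_succ_le (hP : Module.finrank k (X.residueField P) = 1) (n : ℕ) :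
    Module.finrank k (O.space k (n + 1)) ≤ Module.finrank k (O.space k n) + 1 := by
  haveI := O.finite_space (k := k) (n + 1)
  haveI : Module.Finite k (X.residueField P) := Module.finite_of_finrank_eq_succ hP
  have e := (O.lead k (n + 1)).finrank_range_add_finrank_ker
  have h1 : Module.finrank k (LinearMap.range (O.lead k (n + 1))) ≤ 1 := hP ▸ Submodule.finrank_le _
  have h2 : Module.finrank k (LinearMap.ker (O.lead k (n + 1))) = Module.finrank k (O.space k n) := by
    refine LinearEquiv.finrank_eq (LinearEquiv.trans (LinearEquiv.ofEq _ _ ?_)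
      (Submodule.comapSubtypeEquivOfLe (O.space_mono (k := k) (Nat.le_succ n))))
    ext z
    exact O.lead_eq_zero_iff z
  omega

end Groth.Agent.W7OnePole
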