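import Groth.Agent.PicPn.Chart
import Groth.Agent.ProjMor.Morph
import Groth.Prelude.Def_LefPen
import Mathlib.Tactic.LinearCombination

/-!
# The Weierstrass form on the standard charts
-/

set_option autoImplicit false
set_option linter.style.haveILetI false
set_option backward.isDefEq.respectTransparency false

universe u

open CategoryTheory AlgebraicGeometry TopologicalSpace
open Groth.Agent
open Groth.Agent.QC (res resO)

noncomputable section

namespace Groth.Agent.W7OnePole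

variable (k : Type u) [Field k]

open MvPolynomial in
/-- The Weierstrass form. -/
def weier (a₁ a₂ a₃ a₄ a₆ : k) : MvPolynomial (Fin (2 + 1)) k :=
  X 1 ^ 2 * X 2 + C a₁ * X 0 * X 1 * X 2 + C a₃ * X 1 * X 2 ^ 2 - X 0 ^ 3 - C a₂ * X 0 ^ 2 * X 2 -
    C a₄ * X 0 * X 2 ^ 2 - C a₆ * X 2 ^ 3

theorem weier_mem (a₁ a₂ a₃ a₄ a₆ : k) : weier k a₁ a₂ a₃ a₄ a₆ ∈ CohB1.polyGrading 2 k 3 := by
  open MvPolynomial in
  refine (MvPolynomial.mem_homogeneousSubmodule 3 _).mpr ?_
  have hX := isHomogeneous_X k (σ := Fin (2 + 1))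
  have hC := isHomogeneous_C (σ := Fin (2 + 1)) (R := k)
  exact ((((((((hX 1).pow 2).mul (hX 2)).add ((((hC a₁).mul (hX 0)).mul (hX 1)).mul (hX 2))).add
    (((hC a₃).mul (hX 1)).mul ((hX 2).pow 2))).sub ((hX 0).pow 3)).sub
    (((hC a₂).mul ((hX 0).pow 2)).mul (hX 2))).sub (((hC a₄).mul (hX 0)).mul ((hX 2).pow 2))).sub
    ((hC a₆).mul ((hX 2).pow 3))

/-- The Weierstrass form, as a form. -/
def weierForm (a₁ a₂ a₃ a₄ a₆ : k) : LefPen.Form 2 k 3 := ⟨_, weier_mem k a₁ a₂ a₃ a₄ a₆⟩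

variable {k} {a₁ a₂ a₃ a₄ a₆ : k}

/-- Modulo the equation and `Z = 1` everything is linear in `Y`. -/
theorem exists_linear (A : MvPolynomial (Fin (2 + 1)) k) :
    ∃ p q : Polynomial k, A - (Polynomial.aeval (MvPolynomial.X 0) p +
      Polynomial.aeval (MvPolynomial.X 0) q * MvPolynomial.X 1) ∈
        Ideal.span {weier k a₁ a₂ a₃ a₄ a₆, MvPolynomial.X 2 - 1} := by
  induction A using MvPolynomial.induction_on with
  | C c => exact ⟨Polynomial.C c, 0, by simp⟩
  | add A B hA hB =>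
    obtain ⟨p, q, h⟩ := hA
    obtain ⟨p', q', h'⟩ := hB
    refine ⟨p + p', q + q', ?_⟩
    convert Ideal.add_mem _ h h' using 1
    simp only [map_add]; ring
  | mul_X A i hA =>
    obtain ⟨p, q, h⟩ := hA
    have hi := Ideal.mul_mem_right (MvPolynomial.X i) _ h
    fin_cases i
    · refine ⟨p * Polynomial.X, q * Polynomial.X, ?_⟩
      convert hi using 1
      simp only [map_mul, Polynomial.aeval_X, Fin.mk_zero]; ring
    · refine ⟨q * (Polynomial.X ^ 3 + Polynomial.C a₂ * Polynomial.X ^ 2 + Polynomial.C a₄ * Polynomial.X +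
          Polynomial.C a₆), p - q * (Polynomial.C a₁ * Polynomial.X + Polynomial.C a₃), ?_⟩
      have hW : weier k a₁ a₂ a₃ a₄ a₆ ∈ Ideal.span {weier k a₁ a₂ a₃ a₄ a₆, MvPolynomial.X 2 - 1} :=
        Ideal.subset_span (Set.mem_insert _ _)
      have hZ : (MvPolynomial.X 2 - 1 : MvPolynomial (Fin (2 + 1)) k) ∈
          Ideal.span {weier k a₁ a₂ a₃ a₄ a₆, MvPolynomial.X 2 - 1} :=
        Ideal.subset_span (Set.mem_insert_of_mem _ rfl)
      convert Ideal.add_mem _ hi (Ideal.mul_mem_left _ (Polynomial.aeval (MvPolynomial.X 0) q)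
        (Ideal.sub_mem _ hW (Ideal.mul_mem_right
          (MvPolynomial.X 1 ^ 2 + MvPolynomial.C a₁ * MvPolynomial.X 0 * MvPolynomial.X 1 +
            MvPolynomial.C a₃ * MvPolynomial.X 1 * (MvPolynomial.X 2 + 1) -
            MvPolynomial.C a₂ * MvPolynomial.X 0 ^ 2 - MvPolynomial.C a₄ * MvPolynomial.X 0 * (MvPolynomial.X 2 + 1) -
            MvPolynomial.C a₆ * (MvPolynomial.X 2 ^ 2 + MvPolynomial.X 2 + 1)) _ hZ))) using 1
      simp only [map_mul, map_add, map_sub, map_pow, Polynomial.aeval_X, Polynomial.aeval_C,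
        MvPolynomial.algebraMap_eq, Fin.mk_one, weier]
      ring
    · refine ⟨p, q, ?_⟩
      convert Ideal.add_mem _ h (Ideal.mul_mem_left _ A (Ideal.subset_span
        (Set.mem_insert_of_mem (weier k a₁ a₂ a₃ a₄ a₆) (rfl : (MvPolynomial.X 2 - 1 :
          MvPolynomial (Fin (2 + 1)) k) ∈ ({MvPolynomial.X 2 - 1} : Set _))))) using 1
      simp only [Fin.reduceFinMk]; ring

theorem dehom_eq_deh {d : ℕ} (G : LefPen.Form 2 k d) (l : Fin (2 + 1)) :
    LefPen.dehom G l = GrT.deh (CohB1.polyGrading 2 k) (PicPn.X_mem l) G.1 := by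
  rw [GrT.deh_of_mem (CohB1.polyGrading 2 k) (PicPn.X_mem l) G.2]
  rfl

/-- The hyperplane `Z = 0` meets the cubic properly in the other charts. -/
theorem not_dvd_deh (l : Fin (2 + 1)) (hl : l ≠ 2) :
    ¬ PicPn.z (k := k) l 2 ∣ GrT.deh (CohB1.polyGrading 2 k) (PicPn.X_mem l) (weier k a₁ a₂ a₃ a₄ a₆) := by
  rintro ⟨c, hc⟩
  have hφ : (MvPolynomial.eval ![(1 : k), 1, 0]) (MvPolynomial.X l) = 1 := by
    fin_cases l <;> simp at hl ⊢
  have h := congrArg (ProjMor.chartHom (PicPn.X_mem l) (MvPolynomial.eval ![(1 : k), 1, 0]) hφ) hc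
  rw [map_mul, ProjMor.chartHom_deh] at h
  simp only [PicPn.z, ProjMor.chartHom_deh] at h
  simp [weier] at h

/-- Multiples of the equation are detected off the hyperplane `Z = 0`. -/
theorem dvd_of_dvd_pow_mul (l : Fin (2 + 1)) (hl : l ≠ 2) (h : Γ(PicPn.P 2 k, PicPn.ch (k := k) l))
    (N : ℕ) (hN : GrT.deh (CohB1.polyGrading 2 k) (PicPn.X_mem l) (weier k a₁ a₂ a₃ a₄ a₆) ∣
      PicPn.z l 2 ^ N * h) :
    GrT.deh (CohB1.polyGrading 2 k) (PicPn.X_mem l) (weier k a₁ a₂ a₃ a₄ a₆) ∣ h := by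
  haveI : IsDomain Γ(PicPn.P 2 k, PicPn.ch (k := k) l) := by
    obtain ⟨e, -, -⟩ := PicPn.exists_chart (k := k) l
    exact e.injective.isDomain e.toRingHom
  induction N with
  | zero => simpa using hN
  | succ N ih =>
    obtain ⟨c, hc⟩ := hN
    have hp : Prime (PicPn.z (k := k) l 2) := PicPn.prime_z l 2 (fun e => hl e.symm)
    obtain ⟨d, rfl⟩ := (hp.dvd_or_dvd (Dvd.intro (PicPn.z l 2 ^ N * h) (by
      rw [← hc, pow_succ]; ring))).resolve_left (not_dvd_deh l hl)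
    refine ih ⟨d, mul_left_cancel₀ hp.ne_zero ?_⟩
    rw [pow_succ] at hc
    linear_combination hc

end Groth.Agent.W7OnePole
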