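import Groth.Agent.W7OnePole.Basic
import Groth.Agent.CurveRR.Deg
import Groth.Agent.CurveRR.Tensor
import Mathlib.Algebra.Polynomial.AlgebraMap

/-!
# The two generators in genus one
-/

set_option autoImplicit false
set_option linter.style.haveILetI false
set_option backward.isDefEq.respectTransparency false

universe u

open CategoryTheory CategoryTheory.Limits AlgebraicGeometry TopologicalSpace Opposite Polynomial
open Groth.Agent Groth.Agent.CurveRR
open Groth.Agent.W7Pencil (gm gm_injective gm_cst)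

noncomputable section

namespace Groth.Agent.W7OnePole

attribute [local instance] secMod Curv2.stalkAlgebra Curv2.resAlgebra

variable {k : Type u} [Field k] {X : Scheme.{u}} [IsIntegral X] [X.Over (Spec (CommRingCat.of k))]
  {J : X.Modules} {P : X} (O : OnePole J P)

variable (k) in
/-- A function with pole of exact order `n`. -/
def OnePole.Exact (n : ℕ) (z : X.functionField) : Prop :=
  ∃ h : z ∈ O.space k n, O.lead k n ⟨z, h⟩ ≠ 0

theorem OnePole.Exact.mul {m n : ℕ} {z w : X.functionField} (hz : O.Exact k m z) (hw : O.Exact k n w) :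
    O.Exact k (m + n) (z * w) := by
  obtain ⟨hz, hz'⟩ := hz
  obtain ⟨hw, hw'⟩ := hw
  exact ⟨O.space_mul hz hw, by rw [O.lead_mul ⟨z, hz⟩ ⟨w, hw⟩]; exact mul_ne_zero hz' hw'⟩

theorem OnePole.Exact.eq {m n : ℕ} {z : X.functionField} (hm : O.Exact k m z) (hn : O.Exact k n z) : m = n := by
  have key : ∀ {m n : ℕ}, O.Exact k m z → z ∈ O.space k n → m ≤ n := by
    intro m n hm hn
    by_contra hlt
    obtain ⟨j, rfl⟩ := Nat.exists_eq_add_of_lt (not_le.1 hlt)
    exact hm.2 ((O.lead_eq_zero_iff ⟨z, hm.1⟩).2 (O.space_mono (k := k) (Nat.le_add_right n j) hn))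
  exact le_antisymm (key hm hn.1) (key hn hm.1)

theorem OnePole.Exact.ne_zero {m : ℕ} {z : X.functionField} (hm : O.Exact k m z) : z ≠ 0 := by
  rintro rfl
  exact hm.2 (map_zero _)

theorem OnePole.one_exact : O.Exact k 0 1 := by
  refine ⟨⟨1, 1, map_one _, by rw [map_one, pow_zero, mul_one]⟩, ?_⟩
  rw [O.lead_eq _ 1 (show gm O.mem1 1 = (1 : X.functionField) * O.S ^ 0 by
    rw [map_one, pow_zero, one_mul]), map_one]
  exact one_ne_zero

theorem OnePole.Exact.pow {m : ℕ} {z : X.functionField} (hz : O.Exact k m z) (i : ℕ) :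
    O.Exact k (i * m) (z ^ i) := by
  induction i with
  | zero => rw [zero_mul, pow_zero]; exact O.one_exact
  | succ i ih => rw [pow_succ, add_one_mul]; exact ih.mul O hz

theorem OnePole.Exact.smul {m : ℕ} {z : X.functionField} (hz : O.Exact k m z) {c : k} (hc : c ≠ 0) :
    O.Exact k m (c • z) := by
  obtain ⟨hz, hz'⟩ := hz
  refine ⟨(O.space k m).smul_mem c hz, ?_⟩
  rw [show (⟨c • z, (O.space k m).smul_mem c hz⟩ : O.space k m) = c • ⟨z, hz⟩ from rfl, map_smul]
  exact smul_ne_zero hc hz'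

variable [IsProper (X ↘ Spec (CommRingCat.of k))]

theorem OnePole.finrank_space_of_pos (hdim : topologicalKrullDim X ≤ 1)
    (h0 : h k (Coh.structureModule X) 0 = 1) (hg : Curv2.genus k X = 1) (hJ : Curv2.deg k X J 1 = 1)
    {n : ℕ} (hn : 1 ≤ n) : Module.finrank k (O.space k n) = n := by
  rw [O.finrank_space]
  have hd := deg_tensorPow (k := k) hdim O.inv n
  rw [hJ] at hd
  have h := h0_eq_of_deg hdim h0 (TMul.isInvertible_tensorPow O.inv n) (by omega)
  omega

theorem OnePole.finrank_space_zero (h0 : h k (Coh.structureModule X) 0 = 1) :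
    Module.finrank k (O.space k 0) = 1 := by
  rw [O.finrank_space]
  exact h0

/-- Exact orders two and three generate freely over polynomials. -/
theorem OnePole.eq_zero_of_aeval_add {x y : X.functionField} (hx : O.Exact k 2 x) (hy : O.Exact k 3 y) :
    ∀ p q : k[X], aeval x p + aeval x q * y = 0 → p = 0 ∧ q = 0 := by
  have hmem : ∀ (d : ℕ) (r : k[X]), r.natDegree ≤ d → aeval x r ∈ O.space k (d * 2) := by
    intro d r hr
    rw [aeval_eq_sum_range' (n := d + 1) (by omega)]
    exact Submodule.sum_mem _ fun i hi => Submodule.smul_mem _ _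
      (O.space_mono (k := k) (Nat.mul_le_mul_right 2 (by rw [Finset.mem_range] at hi; omega)) (O.space_pow hx.1 i))
  have hex : ∀ r : k[X], r ≠ 0 → O.Exact k (r.natDegree * 2) (aeval x r) := by
    intro r hr
    refine ⟨hmem _ r le_rfl, ?_⟩
    obtain h | h := Nat.eq_zero_or_pos r.natDegree
    · have he : aeval x r = r.coeff 0 • (1 : X.functionField) := by
        conv_lhs => rw [eq_C_of_natDegree_eq_zero h]
        rw [aeval_C, Algebra.smul_def, mul_one]
      have hc : r.coeff 0 ≠ 0 := fun e => hr (by rw [eq_C_of_natDegree_eq_zero h, e, C_0])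
      have h' : O.Exact k (r.natDegree * 2) (aeval x r) := by
        rw [he, h, zero_mul]; exact (O.one_exact (k := k)).smul O hc
      exact h'.2
    · obtain ⟨e, he⟩ : ∃ e, r.natDegree * 2 = e + 1 := ⟨r.natDegree * 2 - 1, by omega⟩
      intro hl
      have hlow : aeval x r.eraseLead ∈ O.space k e :=
        O.space_mono (k := k) (by have := eraseLead_natDegree_le r; omega) (hmem _ _ le_rfl)
      have hlead : O.Exact k (r.natDegree * 2) (r.leadingCoeff • x ^ r.natDegree) :=
        (hx.pow O _).smul O (leadingCoeff_ne_zero.2 hr)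
      rw [he] at hlead
      have hr' : aeval x r ∈ O.space k e := by
        revert hl
        generalize hmem r.natDegree r le_rfl = hh
        revert hh
        rw [he]
        exact fun hh hl => (O.lead_eq_zero_iff ⟨_, hh⟩).1 hl
      refine hlead.2 ((O.lead_eq_zero_iff ⟨_, hlead.1⟩).2 ?_)
      have hsplit : r.leadingCoeff • x ^ r.natDegree = aeval x r - aeval x r.eraseLead := by
        conv_rhs => arg 1; rw [← eraseLead_add_monomial_natDegree_leadingCoeff r]
        rw [map_add, aeval_monomial, Algebra.smul_def, add_sub_cancel_left]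
      show r.leadingCoeff • x ^ r.natDegree ∈ O.space k e
      rw [hsplit]
      exact sub_mem hr' hlow
  intro p q h
  by_cases hq : q = 0
  · refine ⟨?_, hq⟩
    by_contra hp
    rw [hq, map_zero, zero_mul, add_zero] at h
    exact (hex p hp).ne_zero O h
  · exfalso
    have h1 := (hex q hq).mul O hy
    have h2 : aeval x p = (-1 : k) • (aeval x q * y) := by
      rw [neg_one_smul]; exact eq_neg_of_add_eq_zero_left h
    by_cases hp : p = 0
    · rw [hp, map_zero, zero_add] at h
      exact h1.ne_zero O h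
    · have h3 := hex p hp
      rw [h2] at h3
      have := h3.eq O (h1.smul O (neg_ne_zero.2 one_ne_zero))
      omega

/-- Generators of the functions with one pole, satisfying a Weierstrass equation. -/
theorem OnePole.exists_weierstrass (hdim : topologicalKrullDim X ≤ 1)
    (h0 : h k (Coh.structureModule X) 0 = 1) (hg : Curv2.genus k X = 1) (hJ : Curv2.deg k X J 1 = 1)
    (hP : Module.finrank k (X.residueField P) = 1) :
    ∃ (x y : X.functionField) (a₁ a₂ a₃ a₄ a₆ : k), O.Exact k 2 x ∧ O.Exact k 3 y ∧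
      y ^ 2 + a₁ • (x * y) + a₃ • y = x ^ 3 + a₂ • x ^ 2 + a₄ • x + a₆ • 1 ∧
      (∀ (n : ℕ), ∀ z ∈ O.space k n, ∃ p q : k[X], z = aeval x p + aeval x q * y) ∧
      ∀ p q : k[X], aeval x p + aeval x q * y = 0 → p = 0 ∧ q = 0 := by
  haveI : Module.Finite k (X.residueField P) := Module.finite_of_finrank_eq_succ hP
  have hsurj : ∀ r : X.residueField P, ∃ c : k, c • (1 : X.residueField P) = r :=
    fun r => (finrank_eq_one_iff_of_nonzero' (1 : X.residueField P) one_ne_zero).1 hP r
  have hfin := fun n => O.finite_space (k := k) n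
  have hd := fun n (hn : 1 ≤ n) => O.finrank_space_of_pos (k := k) hdim h0 hg hJ hn
  have step : ∀ n, 1 ≤ n → ∃ z, O.Exact k (n + 1) z ∧
      ∀ (h : z ∈ O.space k (n + 1)), O.lead k (n + 1) ⟨z, h⟩ = 1 := by
    intro n hn
    obtain ⟨z, hz, hz'⟩ : ∃ z ∈ O.space k (n + 1), z ∉ O.space k n := by
      by_contra! h
      have := hd (n + 1) (by omega)
      rw [le_antisymm (show O.space k (n + 1) ≤ O.space k n from h) (O.space_mono (k := k) (Nat.le_succ n)),
        hd n hn] at this
      omega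
    obtain ⟨c, hc⟩ := hsurj (O.lead k (n + 1) ⟨z, hz⟩)
    have hc0 : c ≠ 0 := by
      rintro rfl
      rw [zero_smul] at hc
      exact hz' ((O.lead_eq_zero_iff ⟨z, hz⟩).1 hc.symm)
    have hz1 : O.Exact k (n + 1) z := ⟨hz, fun h => hz' ((O.lead_eq_zero_iff ⟨z, hz⟩).1 h)⟩
    refine ⟨c⁻¹ • z, hz1.smul O (inv_ne_zero hc0), fun h => ?_⟩
    rw [show (⟨c⁻¹ • z, h⟩ : O.space k (n + 1)) = c⁻¹ • ⟨z, hz⟩ from rfl, map_smul, ← hc, smul_smul,
      inv_mul_cancel₀ hc0, one_smul]
  obtain ⟨x, hx, hx1⟩ := step 1 le_rfl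
  obtain ⟨y, hy, hy1⟩ := step 2 (by omega)
  -- subtract a multiple of a function of exact order
  have red : ∀ {n : ℕ} {m z : X.functionField}, O.Exact k (n + 1) m → z ∈ O.space k (n + 1) →
      ∃ c : k, z - c • m ∈ O.space k n := by
    intro n m z hm hz
    obtain ⟨hm, hm'⟩ := hm
    obtain ⟨c, hc⟩ := hsurj (O.lead k (n + 1) ⟨z, hz⟩ * (O.lead k (n + 1) ⟨m, hm⟩)⁻¹)
    refine ⟨c, (O.lead_eq_zero_iff ⟨z - c • m, sub_mem hz ((O.space k _).smul_mem c hm)⟩).1 ?_⟩
    rw [show (⟨z - c • m, sub_mem hz ((O.space k _).smul_mem c hm)⟩ : O.space k (n + 1)) =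
      ⟨z, hz⟩ - c • ⟨m, hm⟩ from rfl, map_sub, map_smul, sub_eq_zero]
    have e : c • O.lead k (n + 1) ⟨m, hm⟩ = (c • (1 : X.residueField P)) * O.lead k (n + 1) ⟨m, hm⟩ := by
      rw [smul_mul_assoc, one_mul]
    rw [e, hc, inv_mul_cancel_right₀ hm']
  have hconst : ∀ z ∈ O.space k 1, ∃ c : k, z = c • 1 := by
    intro z hz
    have h01 : O.space k 0 = O.space k 1 := by
      haveI := hfin 1
      exact Submodule.eq_of_le_of_finrank_eq (O.space_mono (k := k) zero_le_one)
        (by rw [hd 1 le_rfl, O.finrank_space_zero h0])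
    obtain ⟨c, hc⟩ := (finrank_eq_one_iff_of_nonzero' (⟨1, O.one_exact.1⟩ : O.space k 0)
      (fun e => (O.one_exact (k := k)).ne_zero O (congrArg Subtype.val e))).1 (O.finrank_space_zero h0)
      ⟨z, h01.symm.le hz⟩
    exact ⟨c, (congrArg Subtype.val hc).symm⟩
  have hx2 := hx.pow O 2
  have hxy := hx.mul O hy
  -- the equation
  have h6 : y ^ 2 - x ^ 3 ∈ O.space k 5 := by
    have hy2 := O.space_mul hy.1 hy.1
    have hx3 := O.space_mul (O.space_mul hx.1 hx.1) hx.1
    rw [pow_two, show x ^ 3 = x * x * x by ring]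
    refine (O.lead_eq_zero_iff (n := 5) ⟨_, sub_mem hy2 hx3⟩).1 ?_
    have h1 : O.lead k 6 ⟨y * y, hy2⟩ = 1 := by
      refine (O.lead_mul ⟨y, hy.1⟩ ⟨y, hy.1⟩).trans ?_
      rw [hy1, one_mul]
    have h2 : O.lead k 6 ⟨x * x * x, hx3⟩ = 1 := by
      refine (O.lead_mul ⟨x * x, O.space_mul hx.1 hx.1⟩ ⟨x, hx.1⟩).trans ?_
      rw [O.lead_mul ⟨x, hx.1⟩ ⟨x, hx.1⟩, hx1, one_mul, one_mul]
    rw [show (⟨y * y - x * x * x, sub_mem hy2 hx3⟩ : O.space k (5 + 1)) = ⟨y * y, hy2⟩ - ⟨x * x * x, hx3⟩ from rfl,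
      map_sub, h1, h2, sub_self]
  obtain ⟨A, hA⟩ := red (n := 4) hxy h6
  obtain ⟨B, hB⟩ := red (n := 3) hx2 hA
  obtain ⟨C', hC⟩ := red (n := 2) hy hB
  obtain ⟨D, hD⟩ := red (n := 1) hx hC
  obtain ⟨E, hE⟩ := hconst _ hD
  refine ⟨x, y, -A, B, -C', D, E, hx, hy, ?_, ?_, ?_⟩
  · rw [neg_smul, neg_smul]
    linear_combination hE
  · intro n
    induction n with
    | zero =>
      intro z hz
      obtain ⟨c, rfl⟩ := hconst z (O.space_mono (k := k) zero_le_one hz)
      exact ⟨C c, 0, by rw [aeval_C, map_zero, zero_mul, add_zero, Algebra.smul_def, mul_one]⟩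
    | succ n ih =>
      intro z hz
      obtain rfl | hn := Nat.eq_zero_or_pos n
      · obtain ⟨c, rfl⟩ := hconst z hz
        exact ⟨C c, 0, by rw [aeval_C, map_zero, zero_mul, add_zero, Algebra.smul_def, mul_one]⟩
      obtain ⟨m, hm | hm⟩ := Nat.even_or_odd' (n + 1)
      · have hxm : O.Exact k (n + 1) (x ^ m) := by rw [show n + 1 = m * 2 by omega]; exact hx.pow O m
        obtain ⟨c, hc⟩ := red hxm hz
        obtain ⟨p, q, h⟩ := ih _ hc
        refine ⟨p + c • Polynomial.X ^ m, q, ?_⟩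
        rw [map_add, map_smul, map_pow, aeval_X]
        linear_combination h
      · have hxm : O.Exact k (n + 1) (x ^ (m - 1) * y) := by
          rw [show n + 1 = (m - 1) * 2 + 3 by omega]; exact (hx.pow O (m - 1)).mul O hy
        obtain ⟨c, hc⟩ := red hxm hz
        obtain ⟨p, q, h⟩ := ih _ hc
        refine ⟨p, q + c • Polynomial.X ^ (m - 1), ?_⟩
        rw [map_add, map_smul, map_pow, aeval_X, add_mul, smul_mul_assoc]
        linear_combination h
  · exact O.eq_zero_of_aeval_add hx hy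

end Groth.Agent.W7OnePole
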